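import Cfsg.Agent.Lib.Known.ReeFourSquare.Weyl

/-!
# The Borel subgroup of the large Ree groups and its two parabolic decompositions
-/

set_option autoImplicit false

namespace CfsgLib.Known.ReeFourSquare

open Cfsg.Lie
open CfsgLib.Lie.Chev CfsgLib.Lie.Chev.TwGroups CfsgLib.Lie.Chev.TwGroups.F4Mult
open CfsgLib.Lie.G2Cover (cj mem_cj)
open CfsgLib.Lie.OctCover (spanR)

universe u

/-- the reflection of a basic direction -/
def sd (k : Fin 2) (i : ZMod 16) : ZMod 16 := (if k = 1 then 6 else 8) - i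

/-- where the span of the other directions starts -/
def ks (k : Fin 2) : ℕ := if k = 1 then 0 else 1

/-- the roots of the other positive directions -/
def kl (k : Fin 2) : List ℕ := rsp (ks k) 7

theorem keepTab : ∀ k : Fin 2,
    normB (rl (dk k)) (kl k) = true ∧ normB (rl (dk k + 8)) (kl k) = true ∧ stabB (rl (dk k)) = true ∧
    stabB (kl k) = true ∧ closedB (rl (dk k)) = true ∧ closedB (kl k) = true ∧
    ((rl (dk k)).all fun r => !(kl k).contains r) = true ∧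
    ((rl (dk k) ++ kl k).all fun r => Nat.ble (half chevF4) r) = true ∧
    ((rsp 0 8).all fun r => (rl (dk k) ++ kl k).contains r) = true ∧
    ((rl (dk k) ++ kl k).all fun r => (rsp 0 8).contains r) = true := by
  decide +kernel

theorem keepDir : ∀ k : Fin 2,
    (∀ i : ZMod 16, i.val < 8 → i ≠ dk k → ((rl i).all fun r => (kl k).contains r) = true ∧
      (sd k i).val < 8 ∧ sd k i ≠ dk k) ∧
    (∀ i : ZMod 16, sd k (sd k i) = i) ∧ sd k (dk k) = dk k + 8 ∧ (dk k).val < 8 := by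
  decide +kernel

theorem keepIdx : ∀ k : Fin 2, ∀ j : Fin 7,
    ((ks k + (j : ℕ) : ℕ) : ZMod 16).val < 8 ∧ ((ks k + (j : ℕ) : ℕ) : ZMod 16) ≠ dk k := by
  decide +kernel

theorem posTab' : ∀ i : ZMod 16, i.val < 8 → ((rl i).all fun r => (rsp 0 8).contains r) = true := by
  decide +kernel

theorem spanR_le {G : Type*} [Group G] {R : ZMod 16 → Subgroup G} {S : Subgroup G} :
    ∀ (n i : ℕ), (∀ j : ℕ, j < n → R ((i + j : ℕ) : ZMod 16) ≤ S) → spanR R i n ≤ S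
  | 0, _, _ => bot_le
  | n + 1, i, h => sup_le (by simpa using h 0 (Nat.succ_pos n))
      (spanR_le n (i + 1) fun j hj => by
        rw [show i + 1 + j = i + (j + 1) by omega]; exact h (j + 1) (by omega))

theorem conj_le {G : Type*} [Group G] {S : Subgroup G} {g : G} (h : ∀ x ∈ S, g * x * g⁻¹ ∈ S) [Finite G] :
    g ∈ Subgroup.normalizer (S : Set G) := by
  refine Subgroup.mem_normalizer_iff.2 fun x => ⟨h x, fun hx => ?_⟩
  have hsur : Function.Surjective fun y : S => (⟨g * y * g⁻¹, h y y.2⟩ : S) := by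
    refine Finite.surjective_of_injective fun a b e => Subtype.ext ?_
    simpa using congrArg Subtype.val e
  obtain ⟨y, hy⟩ := hsur ⟨_, hx⟩
  have e : g * (y : G) * g⁻¹ = g * x * g⁻¹ := congrArg Subtype.val hy
  rw [← show (y : G) = x by simpa using e]
  exact y.2

variable {K : Type u} [Field K] [Fintype K] {m : ℕ} (hK : Fintype.card K = 2 ^ (2 * m + 1))

/-- the positive root elements -/
noncomputable def UP8 : Subgroup ↥(GP hK) := SB hK (rsp 0 8)

/-- the positive radical of a rank one subgroup -/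
noncomputable def Keep (k : Fin 2) : Subgroup ↥(GP hK) := SB hK (kl k)

/-- the Borel subgroup -/
noncomputable def Bo : Subgroup ↥(GP hK) := UP8 hK ⊔ HB hK

theorem SB_mono {L L' : List ℕ} (h : (L.all fun r => L'.contains r) = true) : SB hK L ≤ SB hK L' := fun _ hx =>
  UL_mono (fun r hr => by simpa using List.all_eq_true.1 h r hr) hx

theorem RT_le_Keep (k : Fin 2) {i : ZMod 16} (hi : i.val < 8) (hne : i ≠ dk k) : RT hK i ≤ Keep hK k :=
  (RT_le_SB hK i).trans (SB_mono hK ((keepDir k).1 i hi hne).1)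

theorem RT_le_UP8 {i : ZMod 16} (hi : i.val < 8) : RT hK i ≤ UP8 hK :=
  (RT_le_SB hK i).trans (SB_mono hK (posTab' i hi))

theorem Keep_le_UP8 (k : Fin 2) : Keep hK k ≤ UP8 hK := by
  refine SB_mono hK (List.all_eq_true.2 fun r hr => ?_)
  exact List.all_eq_true.1 (keepTab k).2.2.2.2.2.2.2.2.2 r (List.mem_append_right _ hr)

theorem UP8_le_Bo : UP8 hK ≤ Bo hK := le_sup_left

theorem HB_le_Bo : HB hK ≤ Bo hK := le_sup_right

theorem RT_le_Bo {i : ZMod 16} (hi : i.val < 8) : RT hK i ≤ Bo hK := (RT_le_UP8 hK hi).trans (UP8_le_Bo hK)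

theorem Keep_le_Bo (k : Fin 2) : Keep hK k ≤ Bo hK := (Keep_le_UP8 hK k).trans (UP8_le_Bo hK)

theorem Bo_le : Bo hK ≤ (RR K).BS.subgroupOf (GP hK) :=
  sup_le (fun _ hx => (RR K).UP_le_BS (UL_le_UP (L := rsp 0 8) (by decide +kernel) hx))
    fun _ hx => (RR K).HS_le_BS hx

theorem HB_SB {h : ↥(GP hK)} (hh : h ∈ HB hK) {L : List ℕ} {x : ↥(GP hK)} (hx : x ∈ SB hK L) :
    h * x * h⁻¹ ∈ SB hK L :=
  HS_conj_UL (g := (h : ↥(chevF4.group K))) hh hx

theorem HB_RT {h : ↥(GP hK)} (hh : h ∈ HB hK) {i : ZMod 16} {x : ↥(GP hK)} (hx : x ∈ RT hK i) :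
    h * x * h⁻¹ ∈ RT hK i := by
  rw [RT_eq] at hx ⊢
  exact HB_SB hK hh hx

theorem SB_norm {L T : List ℕ} (h : normB L T = true) {g x : ↥(GP hK)} (hg : g ∈ SB hK L) (hx : x ∈ SB hK T) :
    g * x * g⁻¹ ∈ SB hK T :=
  (Subgroup.mem_normalizer_iff.1 (UL_le_normalizer h hg) (x : ↥(chevF4.group K))).1 hx

theorem RT_Keep (k : Fin 2) {r p : ↥(GP hK)} (hr : r ∈ RT hK (dk k)) (hp : p ∈ Keep hK k) :
    r * p * r⁻¹ ∈ Keep hK k := SB_norm hK (keepTab k).1 (RT_le_SB hK _ hr) hp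

theorem RT8_Keep (k : Fin 2) {r p : ↥(GP hK)} (hr : r ∈ RT hK (dk k + 8)) (hp : p ∈ Keep hK k) :
    r * p * r⁻¹ ∈ Keep hK k := SB_norm hK (keepTab k).2.1 (RT_le_SB hK _ hr) hp

theorem ex_nP (k : Fin 2) : Ex hK (nP hK k) (sd k) := by
  fin_cases k
  · exact (ex_na hK).congr fun i => rfl
  · exact (ex_nb hK).congr fun i => rfl

theorem nP_sq' (hm : 1 ≤ m) (k : Fin 2) : nP hK k * nP hK k = 1 := by
  fin_cases k
  · exact naP_sq hK hm
  · exact nbP_sq hK hm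

theorem nP_norm (k : Fin 2) : nP hK k ∈ Subgroup.normalizer (HB hK : Set ↥(GP hK)) := by
  fin_cases k
  · exact na_norm hK
  · exact nb_norm hK

theorem nP_Keep (k : Fin 2) {p : ↥(GP hK)} (hp : p ∈ Keep hK k) : nP hK k * p * (nP hK k)⁻¹ ∈ Keep hK k := by
  have h7 : ks k + 7 ≤ 8 := by fin_cases k <;> decide
  have hle : spanR (RT hK) (ks k) 7 ≤ (Keep hK k).comap (MulAut.conj (nP hK k)).toMonoidHom := by
    refine spanR_le 7 _ fun j hj x hx => ?_
    show nP hK k * x * (nP hK k)⁻¹ ∈ Keep hK k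
    obtain ⟨h1, h2⟩ := keepIdx k ⟨j, hj⟩
    obtain ⟨-, h3, h4⟩ := (keepDir k).1 _ h1 h2
    exact RT_le_Keep hK k h3 h4 ((ex_nP hK k).RT hx)
  rw [spanR_eq hK 7 (ks k) h7] at hle
  exact hle hp

/-- positive elements split along a basic direction -/
theorem UP8_split (k : Fin 2) {x : ↥(GP hK)} (hx : x ∈ UP8 hK) :
    ∃ p ∈ Keep hK k, ∃ r ∈ RT hK (dk k), x = p * r := by
  obtain ⟨h1, -, h3, h4, h5, h6, h7, h8, h9, -⟩ := keepTab k
  have hxU : (x : ↥(chevF4.group K)) ∈ UL K (rl (dk k) ++ kl k) :=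
    UL_mono (fun r hr => by simpa using List.all_eq_true.1 h9 r hr) hx
  obtain ⟨a, ha, haL, b, hb, hbT, e⟩ := splitF4 hK h1 h3 h4 (UL_inf h5 h6 h7) h8 x.2 hxU
  obtain ⟨a', rfl⟩ : ∃ a' : ↥(GP hK), (a' : ↥(chevF4.group K)) = a := ⟨⟨a, ha⟩, rfl⟩
  obtain ⟨b', rfl⟩ : ∃ b' : ↥(GP hK), (b' : ↥(chevF4.group K)) = b := ⟨⟨b, hb⟩, rfl⟩
  have haR : a' ∈ RT hK (dk k) := SB_le_RT hK _ haL
  refine ⟨a' * b' * a'⁻¹, RT_Keep hK k haR hbT, a', haR, ?_⟩
  rw [show x = a' * b' from Subtype.ext e]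
  group

theorem mem_Bo {b : ↥(GP hK)} (hb : b ∈ Bo hK) : ∃ h ∈ HB hK, ∃ u ∈ UP8 hK, b = h * u := by
  have : Finite ↥(chevF4.group K) := (RR K).Finite_of_field
  have hn : HB hK ≤ Subgroup.normalizer (UP8 hK : Set ↥(GP hK)) := fun h hh =>
    conj_le fun x hx => HB_SB hK hh hx
  obtain ⟨u, hu, h, hh, rfl⟩ := exists_mul_of_mem_sup hn hb
  refine ⟨h, hh, h⁻¹ * u * h, ?_, by group⟩
  have := HB_SB hK (inv_mem hh) hu
  rwa [inv_inv] at this

/-- elements of the Borel subgroup split along a basic direction -/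
theorem Bo_split (k : Fin 2) {b : ↥(GP hK)} (hb : b ∈ Bo hK) :
    ∃ h ∈ HB hK, ∃ p ∈ Keep hK k, ∃ r ∈ RT hK (dk k), b = h * p * r := by
  obtain ⟨h, hh, u, hu, rfl⟩ := mem_Bo hK hb
  obtain ⟨p, hp, r, hr, rfl⟩ := UP8_split hK k hu
  exact ⟨h, hh, p, hp, r, hr, by group⟩

end CfsgLib.Known.ReeFourSquare
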