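import Cfsg.Agent.Lib.Known.ReeFourSquare.Borel

/-!
# Bruhat cells of the large Ree groups and the climb to three cells

Every nontrivial element is conjugate into the cell of `k ↦ k + 8`, of `k ↦ -k` or of `k ↦ 14 - k`.
-/

set_option autoImplicit false

namespace CfsgLib.Known.ReeFourSquare

open Cfsg.Lie
open CfsgLib.Lie.Chev CfsgLib.Lie.Chev.TwGroups CfsgLib.Lie.Chev.TwGroups.F4Mult
open CfsgLib.Lie.G2Cover (cj mem_cj)

universe u

/-- the maps of the dihedral group on directions -/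
def aff (s : Bool) (c k : ZMod 16) : ZMod 16 := bif s then c - k else c + k

theorem aff_facts : ∀ (s : Bool) (c : ZMod 16) (k : Fin 2),
    (∃ j, aff s c j = dk k ∧ ∀ i, aff s c i = dk k + 8 → i = j + 8) ∧
    (c.val % 2 = 0 → ((if k = 1 then (6 : ZMod 16) else 8) - c).val % 2 = 0) ∧
    ∀ j : ZMod 16, aff s c j = dk k → (¬ j.val < 8 → (j + 8).val < 8) ∧ aff s c (j + 8) = dk k + 8 := by
  decide +kernel

theorem sd_aff (s : Bool) (c : ZMod 16) (k : Fin 2) (x : ZMod 16) :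
    sd k (aff s c x) = aff (!s) ((if k = 1 then 6 else 8) - c) x := by
  cases s <;> simp [sd, aff] <;> ring

theorem sd_dk8 : ∀ k : Fin 2, sd k (dk k + 8) = dk k := by decide +kernel

theorem even_cases : ∀ c : ZMod 16, c.val % 2 = 0 →
    c = 0 ∨ c = 2 ∨ c = 4 ∨ c = 6 ∨ c = 8 ∨ c = 10 ∨ c = 12 ∨ c = 14 := by decide +kernel

variable {K : Type u} [Field K] [Fintype K] {m : ℕ} (hK : Fintype.card K = 2 ^ (2 * m + 1))

/-- elements of a Bruhat cell of the dihedral group -/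
def InCells (g : ↥(GP hK)) : Prop :=
  ∃ b ∈ Bo hK, ∃ b' ∈ Bo hK, ∃ (w : ↥(GP hK)) (s : Bool) (c : ZMod 16),
    c.val % 2 = 0 ∧ Ex hK w (aff s c) ∧ g = b * w * b'

theorem InCells.left {g : ↥(GP hK)} (hg : InCells hK g) {b0 : ↥(GP hK)} (hb0 : b0 ∈ Bo hK) :
    InCells hK (b0 * g) := by
  obtain ⟨b, hb, b', hb', w, s, c, hc, hw, rfl⟩ := hg
  exact ⟨b0 * b, mul_mem hb0 hb, b', hb', w, s, c, hc, hw, by group⟩

theorem InCells.step (hm : 1 ≤ m) {g : ↥(GP hK)} (hg : InCells hK g) (k : Fin 2) :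
    InCells hK (nP hK k * g) := by
  obtain ⟨b, hb, b', hb', w, s, c, hc, hw, rfl⟩ := hg
  obtain ⟨⟨j, hj, -⟩, heven, hfacts⟩ := aff_facts s c k
  obtain ⟨hneg, hj8⟩ := hfacts j hj
  obtain ⟨h, hh, p, hp, r, hr, rfl⟩ := Bo_split hK k hb
  obtain ⟨S, hS⟩ : ∃ S, S = nP hK k := ⟨_, rfl⟩
  have hSS : S * S = 1 := hS ▸ nP_sq' hK hm k
  have hSi : S⁻¹ = S := inv_eq_of_mul_eq_one_right hSS
  have hsw : Ex hK (S * w) (aff (!s) ((if k = 1 then 6 else 8) - c)) :=
    hS ▸ ((ex_nP hK k).mul hw).congr fun x => sd_aff s c k x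
  have h1 : S * h * S⁻¹ * (S * p * S⁻¹) ∈ Bo hK :=
    mul_mem (HB_le_Bo hK (hS ▸ nP_conj_HB hK k hh)) (Keep_le_Bo hK k (hS ▸ nP_Keep hK k hp))
  rw [← hS]
  by_cases hjp : j.val < 8
  · refine ⟨_, h1, w⁻¹ * r * w * b', mul_mem (RT_le_Bo hK hjp (hw.RT_inv hj hr)) hb', S * w, _, _, heven hc, hsw, ?_⟩
    group
  by_cases hr1 : r = 1
  · subst hr1
    refine ⟨_, h1, b', hb', S * w, _, _, heven hc, hsw, ?_⟩
    group
  have hr8 : S * r * S⁻¹ ∈ RT hK (dk k + 8) := by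
    have := (ex_nP hK k).RT hr
    rw [(keepDir k).2.2.1] at this
    exact hS ▸ this
  rcases rank_rel hK hm k _ hr8 with e | ⟨p1, hp1, h2, hh2, p2, hp2, e⟩
  · exact absurd (by simpa using e) hr1
  rw [← hS] at e
  have hjj : aff (!s) ((if k = 1 then 6 else 8) - c) (j + 8) = dk k := by
    rw [← sd_aff, hj8, sd_dk8]
  refine ⟨S * h * S⁻¹ * (S * p * S⁻¹) * p1 * h2,
    mul_mem (mul_mem h1 (RT_le_Bo hK (keepDir k).2.2.2 hp1)) (HB_le_Bo hK hh2),
    (S * w)⁻¹ * p2 * (S * w) * b', mul_mem (RT_le_Bo hK (hneg hjp) (hsw.RT_inv hjj hp2)) hb', w, s, c, hc, hw, ?_⟩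
  calc S * (h * p * r * w * b')
      = S * h * S⁻¹ * (S * p * S⁻¹) * (S * r * S⁻¹) * (S * w) * b' := by group
    _ = S * h * S⁻¹ * (S * p * S⁻¹) * p1 * h2 * (S * S) * w * ((S * w)⁻¹ * p2 * (S * w)) * b' := by
        rw [e]; group
    _ = _ := by rw [hSS]; group

theorem bruhat (hm : 1 ≤ m) (g : ↥(GP hK)) : InCells hK g := by
  let T : Subgroup ↥(GP hK) :=
    { carrier := {x | ∀ y, InCells hK (x * y) ↔ InCells hK y}
      one_mem' := fun y => by rw [one_mul]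
      mul_mem' := fun {a b} ha hb y => by rw [mul_assoc]; exact (ha _).trans (hb y)
      inv_mem' := fun {a} ha y => by rw [← ha (a⁻¹ * y), mul_inv_cancel_left] }
  have hB : ∀ x ∈ Bo hK, x ∈ T := fun x hx y => ⟨fun h => by
    have := h.left hK (inv_mem hx); rwa [inv_mul_cancel_left] at this, fun h => h.left hK hx⟩
  have hS : ∀ k, nP hK k ∈ T := fun k y => ⟨fun h => by
    have := h.step hK hm k; rwa [← mul_assoc, nP_sq' hK hm k, one_mul] at this, fun h => h.step hK hm k⟩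
  have hpos : ∀ k, RT hK (dk k) ≤ T := fun k x hx => hB x (RT_le_Bo hK (keepDir k).2.2.2 hx)
  have hneg : ∀ k, RT hK (dk k + 8) ≤ T := fun k x hx => by
    rw [← cj_nP, mem_cj] at hx
    have := mul_mem (mul_mem (hS k) (hpos k hx)) (inv_mem (hS k))
    simpa [mul_assoc] using this
  have htop : g ∈ T := by
    have hle : RT hK 0 ⊔ RT hK 8 ⊔ (RT hK 7 ⊔ RT hK 15) ≤ T :=
      sup_le (sup_le (hpos 0) (hneg 0)) (sup_le (hpos 1) (hneg 1))
    exact hle (by rw [sys_gen]; exact Subgroup.mem_top g)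
  have h1 : InCells hK 1 :=
    ⟨1, one_mem _, 1, one_mem _, 1, false, 0, rfl, (ex_one hK).congr fun k => by simp [aff], by group⟩
  simpa using (htop 1).2 h1

/-- conjugate into a cell -/
def Form (g : ↥(GP hK)) (π : ZMod 16 → ZMod 16) : Prop :=
  ∃ z b w, b ∈ Bo hK ∧ Ex hK w π ∧ z * g * z⁻¹ = b * w

theorem Form.congr {g : ↥(GP hK)} {π ρ : ZMod 16 → ZMod 16} (hF : Form hK g π) (h : ∀ k, π k = ρ k) :
    Form hK g ρ := by
  obtain ⟨z, b, w, hb, hw, e⟩ := hF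
  exact ⟨z, b, w, hb, hw.congr h, e⟩

theorem exists_form (hm : 1 ≤ m) {g : ↥(GP hK)} (hg : g ≠ 1) :
    ∃ (s : Bool) (c : ZMod 16), c.val % 2 = 0 ∧ (s = true ∨ c ≠ 0) ∧ Form hK g (aff s c) := by
  obtain ⟨z, hz⟩ : ∃ z, z * g * z⁻¹ ∉ Bo hK := by
    by_contra hall
    push Not at hall
    have h : g ∈ ((RR K).BS.subgroupOf (GP hK)).normalCore := fun z => Bo_le hK (hall z)
    rw [(twF4 hK).core_eq_bot (faithfulF4 hK), Subgroup.mem_bot] at h
    exact hg h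
  obtain ⟨b, hb, b', hb', w, s, c, hc, hw, e⟩ := bruhat hK hm (z * g * z⁻¹)
  refine ⟨s, c, hc, ?_, b' * z, b' * b, w, mul_mem hb' hb, hw, ?_⟩
  · by_contra hne
    push Not at hne
    obtain ⟨h1, h2⟩ := hne
    rw [ne_eq, Bool.not_eq_true] at h1
    subst h1 h2
    refine hz ?_
    rw [e, hw.ext hm ((ex_one hK).congr fun k => by simp [aff]), mul_one]
    exact mul_mem hb hb'
  · rw [show b' * z * g * (b' * z)⁻¹ = b' * (z * g * z⁻¹) * b'⁻¹ by group, e]
    group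

/-- conjugation by a simple reflection -/
theorem climb {g : ↥(GP hK)} {π : ZMod 16 → ZMod 16} (hF : Form hK g π) (k : Fin 2) {j : ZMod 16}
    (hj : π j = dk k) (hj' : (sd k j).val < 8) : Form hK g (sd k ∘ π ∘ sd k) := by
  obtain ⟨z, b, w, hb, hw, e⟩ := hF
  obtain ⟨h, hh, p, hp, r, hr, rfl⟩ := Bo_split hK k hb
  obtain ⟨S, hS⟩ : ∃ S, S = nP hK k := ⟨_, rfl⟩
  have hSe : Ex hK S (sd k) := hS ▸ ex_nP hK k
  have hW : Ex hK (S * w * S⁻¹) (sd k ∘ π ∘ sd k) :=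
    ((hSe.mul hw).mul (hSe.inv (keepDir k).2.1)).congr fun _ => rfl
  have hr8 : S * r * S⁻¹ ∈ RT hK (sd k (dk k)) := hSe.RT hr
  have hj'' : (sd k ∘ π ∘ sd k) (sd k j) = sd k (dk k) := by
    simp only [Function.comp_apply, (keepDir k).2.1, hj]
  have hu := RT_le_Bo hK hj' (hW.RT_inv hj'' hr8)
  refine ⟨(S * w * S⁻¹)⁻¹ * (S * r * S⁻¹) * (S * w * S⁻¹) * S * z,
    (S * w * S⁻¹)⁻¹ * (S * r * S⁻¹) * (S * w * S⁻¹) * (S * h * S⁻¹ * (S * p * S⁻¹)), S * w * S⁻¹,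
    mul_mem hu (mul_mem (HB_le_Bo hK (hS ▸ nP_conj_HB hK k hh)) (Keep_le_Bo hK k (hS ▸ nP_Keep hK k hp))), hW, ?_⟩
  obtain ⟨u, hu'⟩ : ∃ u, u = (S * w * S⁻¹)⁻¹ * (S * r * S⁻¹) * (S * w * S⁻¹) := ⟨_, rfl⟩
  rw [← hu']
  calc u * S * z * g * (u * S * z)⁻¹ = u * (S * (z * g * z⁻¹) * S⁻¹) * u⁻¹ := by group
    _ = _ := by rw [e, hu']; group

/-- a nontrivial component along a direction kept by the reflection gives a longer cell -/
theorem push (hm : 1 ≤ m) {g : ↥(GP hK)} (k : Fin 2) {π : ZMod 16 → ZMod 16} {w h p r z : ↥(GP hK)}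
    (hw : Ex hK w π) (hh : h ∈ HB hK) (hp : p ∈ Keep hK k) (hr : r ∈ RT hK (dk k)) (hr1 : r ≠ 1)
    (e : z * g * z⁻¹ = h * p * r * w) {j : ZMod 16} (hj : π j = dk k + 8) (hj' : (sd k j).val < 8) :
    Form hK g (π ∘ sd k) := by
  obtain ⟨S, hS⟩ : ∃ S, S = nP hK k := ⟨_, rfl⟩
  have hSe : Ex hK S (sd k) := hS ▸ ex_nP hK k
  have hSS : S * S = 1 := hS ▸ nP_sq' hK hm k
  have hr8 : S * r * S⁻¹ ∈ RT hK (dk k + 8) := (keepDir k).2.2.1 ▸ hSe.RT hr
  rcases rank_rel hK hm k _ hr8 with h1 | ⟨p1, hp1, h2, hh2, p2, hp2, e2⟩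
  · exact absurd (by simpa using h1) hr1
  rw [← hS] at e2
  have hW : Ex hK (S * w * S⁻¹) (sd k ∘ π ∘ sd k) :=
    ((hSe.mul hw).mul (hSe.inv (keepDir k).2.1)).congr fun _ => rfl
  have hj'' : (sd k ∘ π ∘ sd k) (sd k j) = dk k := by
    simp only [Function.comp_apply, (keepDir k).2.1, hj, sd_dk8]
  obtain ⟨u, hu⟩ : ∃ u, u = (S * w * S⁻¹)⁻¹ * p2 * (S * w * S⁻¹) := ⟨_, rfl⟩
  have hu' : u ∈ Bo hK := hu ▸ RT_le_Bo hK hj' (hW.RT_inv hj'' hp2)
  refine ⟨u * S * z, u * (S * h * S⁻¹ * (S * p * S⁻¹) * p1 * h2), w * S⁻¹,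
    mul_mem hu' (mul_mem (mul_mem (mul_mem (HB_le_Bo hK (hS ▸ nP_conj_HB hK k hh))
      (Keep_le_Bo hK k (hS ▸ nP_Keep hK k hp))) (RT_le_Bo hK (keepDir k).2.2.2 hp1)) (HB_le_Bo hK hh2)),
    (hw.mul (hSe.inv (keepDir k).2.1)).congr fun _ => rfl, ?_⟩
  calc u * S * z * g * (u * S * z)⁻¹
      = u * (S * h * S⁻¹ * (S * p * S⁻¹) * (S * r * S⁻¹) * (S * w * S⁻¹)) * u⁻¹ := by
        rw [show u * S * z * g * (u * S * z)⁻¹ = u * (S * (z * g * z⁻¹) * S⁻¹) * u⁻¹ by group, e]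
        group
    _ = u * (S * h * S⁻¹ * (S * p * S⁻¹) * p1 * h2) * (S * S) * (w * S⁻¹) *
          ((S * w * S⁻¹)⁻¹ * p2 * (S * w * S⁻¹)) * u⁻¹ := by rw [e2]; group
    _ = _ := by rw [hSS, ← hu]; group

/-- a direction moved inside the kept ones can be switched on -/
theorem climb' (hm : 1 ≤ m) {g : ↥(GP hK)} {π : ZMod 16 → ZMod 16} (hF : Form hK g π) (k : Fin 2)
    (hpos : (π (dk k)).val < 8) (hne : π (dk k) ≠ dk k) {j : ZMod 16} (hj : π j = dk k + 8)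
    (hj' : (sd k j).val < 8) : Form hK g (π ∘ sd k) := by
  obtain ⟨z, b, w, hb, hw, e⟩ := hF
  obtain ⟨h, hh, p, hp, r, hr, rfl⟩ := Bo_split hK k hb
  by_cases hr1 : r = 1
  swap
  · exact push hK hm k hw hh hp hr hr1 e hj hj'
  subst hr1
  obtain ⟨r0, hr0def⟩ : ∃ r0, r0 = eP hK (dk k) 1 0 := ⟨_, rfl⟩
  have hr0 : r0 ∈ RT hK (dk k) := hr0def ▸ eP_mem hK _ 1 0
  have hr01 : r0 ≠ 1 := fun h1 => one_ne_zero (α := K) (eP_base_inj hK k
    ((hr0def ▸ h1 : eP hK (dk k) (1 : K) 0 = 1).trans (eP_zero hK (dk k)).symm))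
  obtain ⟨q, hq⟩ : ∃ q, q = w * (h * r0 * h⁻¹)⁻¹ * w⁻¹ := ⟨_, rfl⟩
  have hqK : q ∈ Keep hK k :=
    hq ▸ RT_le_Keep hK k hpos hne (hw.RT (inv_mem (HB_RT hK hh hr0)))
  refine push hK hm k hw hh (p := r0 * p * r0⁻¹ * (r0 * q * r0⁻¹))
    (mul_mem (RT_Keep hK k hr0 hp) (RT_Keep hK k hr0 hqK)) hr0 hr01 (z := h * r0 * h⁻¹ * z) ?_ hj hj'
  rw [show h * r0 * h⁻¹ * z * g * (h * r0 * h⁻¹ * z)⁻¹ = h * r0 * h⁻¹ * (z * g * z⁻¹) * (h * r0 * h⁻¹)⁻¹ by group, e,
    hq]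
  group

/-- the three cells that are left -/
theorem exists_cell (hm : 1 ≤ m) {g : ↥(GP hK)} (hg : g ≠ 1) :
    Form hK g (aff false 8) ∨ Form hK g (aff true 0) ∨ Form hK g (aff true 14) := by
  obtain ⟨s, c, hc, hne, hF⟩ := exists_form hK hm hg
  have r2 : Form hK g (aff true 2) → Form hK g (aff true 14) := fun h =>
    (climb hK h 0 (j := 2) (by decide +kernel) (by decide +kernel)).congr hK (by decide +kernel)
  have r12 : Form hK g (aff true 12) → Form hK g (aff true 0) := fun h =>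
    (climb hK h 1 (j := 5) (by decide +kernel) (by decide +kernel)).congr hK (by decide +kernel)
  have r4 : Form hK g (aff true 4) → Form hK g (aff true 0) := fun h => r12
    ((climb hK h 0 (j := 4) (by decide +kernel) (by decide +kernel)).congr hK (by decide +kernel))
  have r10 : Form hK g (aff true 10) → Form hK g (aff true 14) := fun h => r2
    ((climb hK h 1 (j := 3) (by decide +kernel) (by decide +kernel)).congr hK (by decide +kernel))
  have r8 : Form hK g (aff true 8) → Form hK g (aff true 0) := fun h => r4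
    ((climb hK h 1 (j := 1) (by decide +kernel) (by decide +kernel)).congr hK (by decide +kernel))
  have r6 : Form hK g (aff true 6) → Form hK g (aff true 14) := fun h => r10
    ((climb hK h 0 (j := 6) (by decide +kernel) (by decide +kernel)).congr hK (by decide +kernel))
  have rot : ∀ (c c' : ZMod 16) (k : Fin 2) (j : ZMod 16), (aff false c (dk k)).val < 8 →
      aff false c (dk k) ≠ dk k → aff false c j = dk k + 8 → (sd k j).val < 8 →
      (∀ x, (aff false c ∘ sd k) x = aff true c' x) → Form hK g (aff false c) → Form hK g (aff true c') :=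
    fun c c' k j h1 h2 h3 h4 h5 hF => (climb' hK hm hF k h1 h2 h3 h4).congr hK h5
  have hcs := even_cases c hc
  cases s
  · rcases hcs with rfl | rfl | rfl | rfl | rfl | rfl | rfl | rfl
    · exact absurd rfl (hne.resolve_left (by decide))
    · exact Or.inr (Or.inr (r10 (rot 2 10 0 6 (by decide +kernel) (by decide +kernel) (by decide +kernel)
        (by decide +kernel) (by decide +kernel) hF)))
    · exact Or.inr (Or.inl (r12 (rot 4 12 0 4 (by decide +kernel) (by decide +kernel) (by decide +kernel)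
        (by decide +kernel) (by decide +kernel) hF)))
    · exact Or.inr (Or.inr (rot 6 14 0 2 (by decide +kernel) (by decide +kernel) (by decide +kernel)
        (by decide +kernel) (by decide +kernel) hF))
    · exact Or.inl hF
    · exact Or.inr (Or.inl (rot 10 0 1 5 (by decide +kernel) (by decide +kernel) (by decide +kernel)
        (by decide +kernel) (by decide +kernel) hF))
    · exact Or.inr (Or.inr (r2 (rot 12 2 1 3 (by decide +kernel) (by decide +kernel) (by decide +kernel)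
        (by decide +kernel) (by decide +kernel) hF)))
    · exact Or.inr (Or.inl (r4 (rot 14 4 1 1 (by decide +kernel) (by decide +kernel) (by decide +kernel)
        (by decide +kernel) (by decide +kernel) hF)))
  · rcases hcs with rfl | rfl | rfl | rfl | rfl | rfl | rfl | rfl
    · exact Or.inr (Or.inl hF)
    · exact Or.inr (Or.inr (r2 hF))
    · exact Or.inr (Or.inl (r4 hF))
    · exact Or.inr (Or.inr (r6 hF))
    · exact Or.inr (Or.inl (r8 hF))
    · exact Or.inr (Or.inr (r10 hF))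
    · exact Or.inr (Or.inl (r12 hF))
    · exact Or.inr (Or.inr hF)

end CfsgLib.Known.ReeFourSquare
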