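import Cfsg.Agent.Lib.Known.ReeFourSquare.Sigma
import Cfsg.Agent.Lib.Known.SmallSquare.TriClass

/-!
# The class in the large Ree group and the cells it covers
-/

set_option autoImplicit false

namespace CfsgLib.Known.ReeFourSquare

open Cfsg.Lie
open CfsgLib.Lie.Chev CfsgLib.Lie.Chev.TwGroups CfsgLib.Lie.Chev.TwGroups.F4Mult
open CfsgLib.Known.SmallSquare CfsgLib.Known.SmallSquare.G2 GLA
open Matrix

universe u

theorem posWt : ∀ i : ZMod 16, i.val < 8 → i ≠ 0 → unitB ((wt i).1 + (wt i).2 * 2) = true := by decide +kernel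

variable {K : Type u} [Field K] [Fintype K] {m : ℕ} (hK : Fintype.card K = 2 ^ (2 * m + 1))

include hK in
theorem cube_inj {a b : Kˣ} (h : a ^ 3 = b ^ 3) : a = b := by
  classical
  refine mul_inv_eq_one.1 ?_
  have h3 : (a * b⁻¹) ^ 3 = 1 := by rw [mul_pow, h, inv_pow, mul_inv_cancel]
  have hcop : Nat.Coprime 3 (Fintype.card Kˣ) := by
    have h4 : ∀ n : ℕ, (2 * 4 ^ n) % 3 = 2 := fun n => by simp [Nat.mul_mod, Nat.pow_mod]
    rw [Fintype.card_units, hK, show 2 ^ (2 * m + 1) = 2 * 4 ^ m by rw [pow_succ, pow_mul, mul_comm]; norm_num]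
    refine (Nat.Prime.coprime_iff_not_dvd Nat.prime_three).2 fun hd => ?_
    have := h4 m
    have : 0 < 4 ^ m := by positivity
    omega
  refine orderOf_eq_one_iff.1 (Nat.dvd_one.1 ?_)
  rw [← hcop]
  exact Nat.dvd_gcd (orderOf_dvd_of_pow_eq_one h3) orderOf_dvd_card

include hK in
theorem pre_of (c : Kˣ) : Pre (c : K) ((c : K) * c) := by
  have := charF4 hK
  refine ⟨fun a ha => ?_, c.ne_zero⟩
  have ha0 : a ≠ 0 := fun z => c.ne_zero (by rw [z] at ha; simpa using ha)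
  have h3 : a ^ 3 = (c : K) ^ 3 := CharTwo.add_eq_zero.1 (by linear_combination (a + (c : K)) * ha)
  obtain rfl : a = (c : K) := congrArg Units.val (cube_inj hK (a := Units.mk0 a ha0) (b := c) (Units.ext h3))
  exact c.ne_zero (by simpa [sq] using ha)

/-- the class representative -/
noncomputable def xRep (hm : 1 ≤ m) (c : Kˣ) : ↥(GP hK) := phi hK hm (pre_of hK c).yel

/-- products of two conjugates -/
def IsSq (hm : 1 ≤ m) (c : Kˣ) (g : ↥(GP hK)) : Prop :=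
  ∃ u v : ↥(GP hK), g = (u * xRep hK hm c * u⁻¹) * (v * xRep hK hm c * v⁻¹)

theorem IsSq.conj (hm : 1 ≤ m) (c : Kˣ) {g : ↥(GP hK)} (z : ↥(GP hK)) (h : IsSq hK hm c (z * g * z⁻¹)) :
    IsSq hK hm c g := by
  obtain ⟨u, v, e⟩ := h
  refine ⟨z⁻¹ * u, z⁻¹ * v, ?_⟩
  calc g = z⁻¹ * (z * g * z⁻¹) * z := by group
    _ = _ := by rw [e]; group

include hK in
theorem yel_cube (c : Kˣ) : (pre_of hK c).yel ^ 3 = dg (c ^ 3) (c ^ 3) := by
  have := charF4 hK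
  refine Units.ext ?_
  rw [Units.val_pow_eq_pow_val, Pre.yel_val, dg_val, pow_succ, pow_two]
  ext i j
  fin_cases i <;> fin_cases j <;>
    simp [comp2, mul_apply, Fin.sum_univ_two, CharTwo.neg_eq, CharTwo.add_self_eq_zero] <;> ring_nf <;>
    simp [CharTwo.two_eq_zero]

theorem xRep_cube (hm : 1 ≤ m) (c : Kˣ) : xRep hK hm c ^ 3 = hP hK (c ^ 3, c ^ 3 * c ^ 3) := by
  rw [xRep, ← map_pow, yel_cube hK, phi_dg]

theorem odd_order (hm : 1 ≤ m) (c : Kˣ) : Odd (orderOf (xRep hK hm c)) := by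
  classical
  have hodd : Odd (3 * Fintype.card Kˣ) := by
    refine Odd.mul (by decide) ?_
    rw [Fintype.card_units, hK]
    exact Nat.Even.sub_odd Nat.one_le_two_pow (even_two.pow_of_ne_zero (by omega)) odd_one
  refine hodd.of_dvd_nat (orderOf_dvd_of_pow_eq_one ?_)
  rw [pow_mul, xRep_cube, ← map_pow, show ((c ^ 3, c ^ 3 * c ^ 3) : Kˣ × Kˣ) ^ Fintype.card Kˣ = 1 from
    Prod.ext pow_card_eq_one pow_card_eq_one, map_one]

theorem fixed_UA {c : Kˣ} (hc : c ≠ 1) {g : ↥(GP hK)} (hg : g ∈ UA hK)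
    (e : hP hK (c ^ 3, c ^ 3 * c ^ 3) * g * (hP hK (c ^ 3, c ^ 3 * c ^ 3))⁻¹ = g) : g = 1 := by
  have hC : c ^ 3 ≠ 1 := fun h => hc (cube_inj hK (by rw [h, one_pow]))
  have h0 : g ∈ RT hK 0 := by
    refine mem_RT_of_commute hK (UL_le_UP (L := rsp 1 7) (by decide +kernel) hg) 0 _ (fun i hi hi0 h => hC ?_) e
    refine pw_eq_one hK (posWt i hi hi0) ?_
    rw [pw_add, pw_mul hK, pw_two, sq]
    exact h
  have h1 : g ∈ RT hK ((0 : ℕ) : ZMod 16) ⊓ CfsgLib.Lie.OctCover.spanR (RT hK) (0 + 1) 7 := by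
    refine Subgroup.mem_inf.2 ⟨by rwa [Nat.cast_zero], ?_⟩
    rw [spanR_eq hK 7 1 le_rfl]
    exact hg
  rwa [disj_span hK 0 7 (by norm_num), Subgroup.mem_bot] at h1

theorem fixed_VA (hm : 1 ≤ m) {c : Kˣ} (hc : c ≠ 1) {g : ↥(GP hK)} (hg : g ∈ VA hK)
    (e : hP hK (c ^ 3, c ^ 3 * c ^ 3) * g * (hP hK (c ^ 3, c ^ 3 * c ^ 3))⁻¹ = g) : g = 1 := by
  have := charF4 hK
  obtain ⟨u, hu, rfl⟩ := hg
  change hP hK _ * (n0 hK * u * (n0 hK)⁻¹) * _ = n0 hK * u * (n0 hK)⁻¹ at e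
  show n0 hK * u * (n0 hK)⁻¹ = 1
  have hz : (n0 hK)⁻¹ * hP hK (c ^ 3, c ^ 3 * c ^ 3) * n0 hK = (hP hK (c ^ 3, c ^ 3 * c ^ 3))⁻¹ := by
    rw [← phi_dg hK hm, n0_phi', tinv_dg, phi_dg, phi_dg, ← map_inv]
    exact congrArg (hP hK) (Prod.ext rfl (mul_inv _ _).symm)
  obtain ⟨Z, hZ⟩ : ∃ Z, Z = hP hK (c ^ 3, c ^ 3 * c ^ 3) := ⟨_, rfl⟩
  rw [← hZ] at e hz
  have e2 : Z⁻¹ * u * Z⁻¹⁻¹ = u := by
    rw [← hz]
    calc _ = (n0 hK)⁻¹ * (Z * (n0 hK * u * (n0 hK)⁻¹) * Z⁻¹) * n0 hK := by group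
      _ = u := by rw [e]; group
  have hu1 : u = 1 := fixed_UA hK hc hu (hZ ▸ (by
    nth_rewrite 1 [← e2]
    group : Z * u * Z⁻¹ = u))
  rw [hu1, mul_one, mul_inv_cancel]

theorem real (hm : 1 ≤ m) (c : Kˣ) : ∃ w, w * xRep hK hm c * w⁻¹ = (xRep hK hm c)⁻¹ := by
  obtain ⟨P, hP'⟩ := (pre_of hK c).conj_inv 1
  refine ⟨phi hK hm (P⁻¹ * emat 1) * n0 hK, ?_⟩
  have e : (P⁻¹ * emat 1) * tinv (pre_of hK c).yel * (P⁻¹ * emat 1)⁻¹ = ((pre_of hK c).yel)⁻¹ := by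
    rw [show (P⁻¹ * emat 1) * tinv (pre_of hK c).yel * (P⁻¹ * emat 1)⁻¹ =
      P⁻¹ * (emat 1 * tinv (pre_of hK c).yel * (emat 1)⁻¹) * P by group, hP']
    group
  have e' := congrArg (phi hK hm) e
  rw [map_mul, map_mul, map_inv, map_inv, ← n0_phi hK hm] at e'
  show _ = (phi hK hm _)⁻¹
  rw [← e', xRep]
  group

theorem absorb (hm : 1 ≤ m) {c : Kˣ} (hc : c ≠ 1) :
    (∀ v ∈ VA hK, ∃ z, z * xRep hK hm c * z⁻¹ = v * xRep hK hm c) ∧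
    ∀ u ∈ UA hK, ∃ z, z * xRep hK hm c * z⁻¹ = (xRep hK hm c)⁻¹ * u := by
  have : Finite ↥(chevF4.group K) := (RR K).Finite_of_field
  obtain ⟨x, hx⟩ : ∃ x, x = xRep hK hm c := ⟨_, rfl⟩
  have hcube : ∀ {g : ↥(GP hK)}, x * g * x⁻¹ = g →
      hP hK (c ^ 3, c ^ 3 * c ^ 3) * g * (hP hK (c ^ 3, c ^ 3 * c ^ 3))⁻¹ = g := by
    intro g e
    have hcom : Commute (x ^ 3) g := (show Commute x g from mul_inv_eq_iff_eq_mul.1 e).pow_left 3
    rw [hx, xRep_cube] at hcom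
    exact mul_inv_eq_iff_eq_mul.2 hcom.eq
  have nV : x ∈ Subgroup.normalizer (VA hK : Set ↥(GP hK)) :=
    conj_le fun g hg => hx ▸ phi_VA hK hm _ hg
  have nU : x⁻¹ ∈ Subgroup.normalizer (UA hK : Set ↥(GP hK)) :=
    inv_mem (conj_le fun g hg => hx ▸ phi_UA hK hm _ hg)
  rw [← hx]
  refine ⟨fun v hv => ?_, fun u hu => ?_⟩
  · obtain ⟨z, -, e⟩ := (Tri.conj_absorb nV (fun g hg e => fixed_VA hK hm hc hg (hcube e)) hv).2
    exact ⟨z, e⟩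
  · obtain ⟨z, -, e⟩ := (Tri.conj_absorb nU (fun g hg e => fixed_UA hK hc hg (hcube (by
      nth_rewrite 1 [← e]; group))) hu).1
    obtain ⟨w, hw⟩ := real hK hm c
    rw [← hx] at hw
    refine ⟨z * w, ?_⟩
    rw [← e, ← hw]
    group

theorem isSq_cell (hm : 1 ≤ m) {c : Kˣ} (hc : c ≠ 1) {M : GL (Fin 2) K} (hM : OKMat 1 M.1) {v u : ↥(GP hK)}
    (hv : v ∈ VA hK) (hu : u ∈ UA hK) : IsSq hK hm c (v * phi hK hm M * u) := by
  obtain ⟨P, Q, e⟩ := (pre_of hK c).exists_quot M hM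
  obtain ⟨hA, hB⟩ := absorb hK hm hc
  obtain ⟨z, hz⟩ := hA _ (phi_VA' hK hm P hv)
  obtain ⟨w, hw⟩ := hB _ (phi_UA hK hm Q⁻¹ (x := (u : ↥(GP hK))) hu)
  rw [map_inv, inv_inv] at hw
  refine ⟨phi hK hm P * z, phi hK hm Q * w, ?_⟩
  rw [show phi hK hm P * z * xRep hK hm c * (phi hK hm P * z)⁻¹ =
      phi hK hm P * (z * xRep hK hm c * z⁻¹) * (phi hK hm P)⁻¹ by group,
    show phi hK hm Q * w * xRep hK hm c * (phi hK hm Q * w)⁻¹ =
      phi hK hm Q * (w * xRep hK hm c * w⁻¹) * (phi hK hm Q)⁻¹ by group, hz, hw, e]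
  simp only [xRep, map_mul, map_inv]
  group

/-- the big cell of the parabolic -/
theorem far_sq (hm : 1 ≤ m) {c : Kˣ} (hc : c ≠ 1) (A : GL (Fin 2) K) {u : ↥(GP hK)} (hu : u ∈ UA hK) :
    IsSq hK hm c (n0 hK * phi hK hm A * u) := by
  obtain ⟨S, hS, hdet, hdet2, hgood⟩ := exists_target (one_ne_zero (α := K)) A.1 A.det_ne_zero
  obtain ⟨Q, rfl⟩ : ∃ Q : GL (Fin 2) K, Q.1 = S := ⟨GeneralLinearGroup.mkOfDetNeZero S hdet, rfl⟩
  obtain ⟨z, hz, v, hv, u1, hu1, e⟩ := sig_symm hK hm Q hS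
  refine IsSq.conj hK hm c z ?_
  rw [show z * (n0 hK * phi hK hm A * u) * z⁻¹ =
      v * phi hK hm (Q * A) * (((phi hK hm A)⁻¹ * u1 * phi hK hm A) * u * z⁻¹) by
    rw [map_mul, show z * (n0 hK * phi hK hm A * u) * z⁻¹ = (z * n0 hK) * phi hK hm A * u * z⁻¹ by group, e]
    group]
  exact isSq_cell hK hm hc ⟨hdet2, hgood⟩ hv (mul_mem (mul_mem (phi_UA' hK hm A hu1) hu) (inv_mem hz))

end CfsgLib.Known.ReeFourSquare
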