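import Cfsg.Agent.Lib.Known.ReeFourSquare.Borel
import Cfsg.Agent.Lib.Known.SmallSquare.G2Sigma

/-!
# The Levi subgroup `GL(2)` of the first parabolic and its two radicals
-/

set_option autoImplicit false

namespace CfsgLib.Known.ReeFourSquare

open Cfsg.Lie
open CfsgLib.Lie.Chev CfsgLib.Lie.Chev.TwGroups CfsgLib.Lie.Chev.TwGroups.F4Mult
open CfsgLib.Lie.G2Cover (cj mem_cj)
open Matrix
open scoped MatrixGroups

universe u

namespace GLA

open CfsgLib.Known.SmallSquare.G2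

variable {K : Type u} [Field K]

/-- the antidiagonal matrix -/
def jm (K : Type u) [Field K] : GL (Fin 2) K :=
  GeneralLinearGroup.mkOfDetNeZero !![0, 1; 1, 0] (by simp [det_fin_two])

theorem jm_val : (jm K).1 = !![0, 1; 1, 0] := rfl

theorem dg_mul (a b c d : Kˣ) : dg a b * dg c d = dg (a * c) (b * d) := by
  refine Units.ext ?_
  rw [Units.val_mul, dg_val, dg_val, dg_val]
  ext i j; fin_cases i <;> fin_cases j <;> simp [mul_apply, Fin.sum_univ_two]

variable [CharP K 2]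

theorem jm_eq : jm K = T01 (1 : K) * T10 1 * T01 1 := by
  refine Units.ext ?_
  rw [Units.val_mul, Units.val_mul, T01_val, T10_val, jm_val]
  ext i j; fin_cases i <;> fin_cases j <;> simp [mul_apply, Fin.sum_univ_two, CharTwo.add_self_eq_zero]

theorem tinv_T01 (t : K) : tinv (T01 t) = T10 t := by
  refine Units.ext ?_
  rw [tinv_val, coe_units_inv, T01_val, T10_val, inv_eq_left_inv (B := !![1, t; 0, 1]) ?_]
  · ext i j; fin_cases i <;> fin_cases j <;> simp
  · ext i j; fin_cases i <;> fin_cases j <;> simp [mul_apply, Fin.sum_univ_two, CharTwo.add_self_eq_zero]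

theorem tinv_T10 (t : K) : tinv (T10 t) = T01 t := by
  refine Units.ext ?_
  rw [tinv_val, coe_units_inv, T10_val, T01_val, inv_eq_left_inv (B := !![1, 0; t, 1]) ?_]
  · ext i j; fin_cases i <;> fin_cases j <;> simp
  · ext i j; fin_cases i <;> fin_cases j <;> simp [mul_apply, Fin.sum_univ_two, CharTwo.add_self_eq_zero]

omit [CharP K 2] in
theorem tinv_dg (a b : Kˣ) : tinv (dg a b) = dg a⁻¹ b⁻¹ := by
  refine Units.ext ?_
  rw [tinv_val, coe_units_inv, dg_val, dg_val, inv_eq_left_inv (B := !![(a⁻¹ : Kˣ).1, 0; 0, (b⁻¹ : Kˣ).1]) ?_]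
  · ext i j; fin_cases i <;> fin_cases j <;> simp
  · ext i j; fin_cases i <;> fin_cases j <;> simp [mul_apply, Fin.sum_univ_two]

omit [CharP K 2] in
theorem tinv_tinv (A : GL (Fin 2) K) : tinv (tinv A) = A := by
  refine Units.ext ?_
  rw [tinv_val, ← map_inv, tinv_val, inv_inv, transpose_transpose]

end GLA

variable {K : Type u} [Field K] [Fintype K] {m : ℕ} (hK : Fintype.card K = 2 ^ (2 * m + 1))

/-- the inverse of the field endomorphism -/
noncomputable def frInv : K →+* K :=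
  (RingEquiv.ofBijective (frF4 hK) ⟨(frF4 hK).injective, Finite.surjective_of_injective (frF4 hK).injective⟩).symm.toRingHom

theorem frInv_frF4 (x : K) : frInv hK (frF4 hK x) = x :=
  (RingEquiv.ofBijective (frF4 hK)
    ⟨(frF4 hK).injective, Finite.surjective_of_injective (frF4 hK).injective⟩).symm_apply_apply x

theorem frF4_frInv (x : K) : frF4 hK (frInv hK x) = x :=
  (RingEquiv.ofBijective (frF4 hK)
    ⟨(frF4 hK).injective, Finite.surjective_of_injective (frF4 hK).injective⟩).apply_symm_apply x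

/-- the antidiagonal element of `SL(2)` in characteristic two -/
noncomputable def jS : SL(2, K) :=
  ⟨!![0, 1; 1, 0], by have := charF4 hK; simp [det_fin_two, CharTwo.neg_eq]⟩

/-- the first rank one subgroup as `SL(2)`, its positive root elements upper triangular -/
noncomputable def rho : ↥(Mk hK 0) →* SL(2, K) :=
  (MulAut.conj (jS hK)).toMonoidHom.comp ((SpecialLinearGroup.map (frInv hK)).comp (phiA hK))

theorem rho_bijective (hm : 1 ≤ m) : Function.Bijective (rho hK) := by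
  have hmap : Function.Bijective (SpecialLinearGroup.map (n := Fin 2) (frInv hK)) := by
    refine Finite.injective_iff_bijective.1 fun A B h => Subtype.ext ?_
    ext i j
    exact (frInv hK).injective (congrFun (congrFun (congrArg Subtype.val h) i) j)
  exact (MulAut.conj (jS hK)).bijective.comp (hmap.comp (phiA_bijective hK hm))

theorem jS_conj (A : SL(2, K)) : (MulAut.conj (jS hK) A).1 = !![A.1 1 1, A.1 1 0; A.1 0 1, A.1 0 0] := by
  have := charF4 hK
  have hinv : (jS hK)⁻¹ = jS hK := inv_eq_of_mul_eq_one_right (Subtype.ext (by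
    show !![(0 : K), 1; 1, 0] * !![0, 1; 1, 0] = 1
    ext i j; fin_cases i <;> fin_cases j <;> simp [mul_apply, Matrix.vecMul, dotProduct, Fin.sum_univ_two]))
  rw [MulAut.conj_apply, hinv]
  show !![(0 : K), 1; 1, 0] * A.1 * !![0, 1; 1, 0] = _
  ext i j; fin_cases i <;> fin_cases j <;> simp [mul_apply, Matrix.vecMul, dotProduct, Fin.sum_univ_two]

theorem rho_val (x : ↥(Mk hK 0)) : (rho hK x).1 =
    !![frInv hK ((repA hK x).1 1 1), frInv hK ((repA hK x).1 1 0);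
       frInv hK ((repA hK x).1 0 1), frInv hK ((repA hK x).1 0 0)] :=
  jS_conj hK (SpecialLinearGroup.map (frInv hK) (phiA hK x))

theorem rho_zero (t u : K) : (rho hK ⟨eP hK 0 t u, RT_le_Mk hK 0 (eP_mem hK 0 t u)⟩).1 = !![1, t; 0, 1] := by
  rw [rho_val, repA_lower]
  simp [frInv_frF4]

theorem rho_eight (t u : K) : (rho hK ⟨eP hK 8 t u, RT8_le_Mk hK 0 (eP_mem hK 8 t u)⟩).1 = !![1, 0; t, 1] := by
  rw [rho_val, repA_upper]
  simp [frInv_frF4]

theorem lvTab0 : ((lvW 0).getD 0 0 = 27 ∧ (lvW 0).getD 1 0 = 34) ∧ chevF4.cartan 0 27 = -1 ∧ chevF4.cartan 3 27 = 0 ∧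
    chevF4.cartan 0 34 = 1 ∧ chevF4.cartan 3 34 = 0 := by decide +kernel

include hK in
theorem ev_tc0 (r : ℕ) (n : ℤ) (h0 : chevF4.cartan 0 r = n) (h3 : chevF4.cartan 3 r = 0) (d : Kˣ) :
    (ev m r (tc 0 d) : K) = frF4 hK ((d : K) ^ n) := by
  rw [map_zpow₀, frF4_apply]
  simp [ev, tc, h0, h3]

theorem rho_tor (d : Kˣ) : (rho hK ⟨tor hK 0 d, tor_mem_Mk hK 0 d⟩).1 = !![(d : K), 0; 0, (d : K)⁻¹] := by
  have h := rep_torus hK 0 (tc 0 d) (tor_mem_Mk hK 0 d)
  change (repA hK ⟨tor hK 0 d, tor_mem_Mk hK 0 d⟩).1 = _ at h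
  obtain ⟨⟨g0, g1⟩, c0, c3, d0, d3⟩ := lvTab0
  have h' : (repA hK ⟨tor hK 0 d, tor_mem_Mk hK 0 d⟩).1 =
      Matrix.diagonal ![frF4 hK ((d : K) ^ (-1 : ℤ)), frF4 hK ((d : K) ^ (1 : ℤ))] := by
    refine h.trans (congrArg Matrix.diagonal (funext fun (i : Fin 2) => ?_))
    fin_cases i
    · show (ev m ((lvW 0).getD 0 0) (tc 0 d) : K) = _
      rw [g0, ev_tc0 hK 27 (-1) c0 c3]; rfl
    · show (ev m ((lvW 0).getD 1 0) (tc 0 d) : K) = _
      rw [g1, ev_tc0 hK 34 1 d0 d3]; rfl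
  rw [rho_val, h']
  ext i j
  fin_cases i <;> fin_cases j <;> simp [frInv_frF4]

/-- `SL(2)` inside the twisted group -/
noncomputable def psiS (hm : 1 ≤ m) : SL(2, K) →* ↥(GP hK) :=
  (Mk hK 0).subtype.comp (MulEquiv.ofBijective (rho hK) (rho_bijective hK hm)).symm.toMonoidHom

theorem psiS_rho (hm : 1 ≤ m) (x : ↥(Mk hK 0)) : psiS hK hm (rho hK x) = x :=
  congrArg Subtype.val ((MulEquiv.ofBijective (rho hK) (rho_bijective hK hm)).symm_apply_apply x)

theorem psiS_mem (hm : 1 ≤ m) (A : SL(2, K)) : psiS hK hm A ∈ Mk hK 0 :=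
  ((MulEquiv.ofBijective (rho hK) (rho_bijective hK hm)).symm A).2

/-- the scalars -/
noncomputable def scP : Kˣ →* ↥(GP hK) where
  toFun c := hP hK (c, c * c)
  map_one' := by rw [one_mul]; exact map_one _
  map_mul' a b := by rw [← map_mul]; congr 1; exact Prod.ext rfl (mul_mul_mul_comm a b a b)

omit [Fintype K] in
theorem chr_zero_sc (a b : Kˣ) : chr m (wt 0) (a, b) = a * a * b⁻¹ := by
  rw [show wt 0 = ((2 : ℤ√2), ((-1 : ℤ) : ℤ√2)) by decide +kernel, chr, pw_two, pw_int, _root_.zpow_neg_one, sq]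

theorem scP_comm {g : ↥(GP hK)} (hg : g ∈ Mk hK 0) (c : Kˣ) : Commute g (scP hK c) := by
  have h0 : chr m (wt 0) (c, c * c) = 1 := by rw [chr_zero_sc, mul_inv_cancel]
  have h8 : chr m (wt 8) (c, c * c) = 1 := by
    rw [show wt 8 = (-1 * (wt 0).1, -1 * (wt 0).2) from (dkTab 0).2.2.2, chr_smul hK, h0, pw_one_arg]
  have hle : Mk hK 0 ≤ Subgroup.centralizer {scP hK c} := by
    refine sup_le ?_ ?_ <;> rintro _ ⟨t, u, rfl⟩ <;> refine Subgroup.mem_centralizer_singleton_iff.2 ?_ <;>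
      refine (mul_inv_eq_iff_eq_mul.1 ((hP_eP hK _ (c, c * c) t u).trans ?_)).symm
    · rw [show dk 0 = 0 from rfl, h0]; simp
    · rw [show dk 0 + 8 = (8 : ZMod 16) from rfl, h8]; simp
  exact Subgroup.mem_centralizer_singleton_iff.1 (hle hg)

include hK in
theorem sq_bij : Function.Bijective (powMonoidHom 2 : Kˣ →* Kˣ) :=
  Finite.injective_iff_bijective.1 fun _ _ h => sq_units_inj hK h

/-- the square root -/
noncomputable def rtK : Kˣ →* Kˣ := (MulEquiv.ofBijective (powMonoidHom 2 : Kˣ →* Kˣ) (sq_bij hK)).symm.toMonoidHom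

theorem rtK_sq (c : Kˣ) : rtK hK c * rtK hK c = c := by
  rw [← sq]
  exact (MulEquiv.ofBijective (powMonoidHom 2 : Kˣ →* Kˣ) (sq_bij hK)).apply_symm_apply c

/-- dividing a matrix by the square root of its determinant -/
noncomputable def nrm : GL (Fin 2) K →* SL(2, K) where
  toFun A := ⟨((rtK hK (GeneralLinearGroup.det A))⁻¹ : Kˣ).1 • A.1, by
    rw [det_smul, Fintype.card_fin, ← Units.val_pow_eq_pow_val, ← GeneralLinearGroup.val_det_apply, ← Units.val_mul]
    conv_lhs => arg 1; arg 2; rw [← rtK_sq hK (GeneralLinearGroup.det A)]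
    rw [inv_pow, sq, inv_mul_cancel, Units.val_one]⟩
  map_one' := Subtype.ext (by simp)
  map_mul' A B := Subtype.ext (by
    show ((rtK hK (GeneralLinearGroup.det (A * B)))⁻¹ : Kˣ).1 • (A * B).1 = (_ • A.1) * (_ • B.1)
    rw [smul_mul_smul_comm, map_mul, map_mul, mul_inv, Units.val_mul, Units.val_mul])

/-- the Levi map -/
noncomputable def phi (hm : 1 ≤ m) : GL (Fin 2) K →* ↥(GP hK) where
  toFun A := psiS hK hm (nrm hK A) * scP hK (rtK hK (GeneralLinearGroup.det A))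
  map_one' := by simp
  map_mul' A B := by
    rw [map_mul, map_mul, map_mul, map_mul, map_mul]
    exact (scP_comm hK (psiS_mem hK hm (nrm hK B)) (rtK hK (GeneralLinearGroup.det A))).mul_mul_mul_comm _ _

open CfsgLib.Known.SmallSquare.G2 GLA

theorem phi_T01 (hm : 1 ≤ m) (t : K) : phi hK hm (T01 t) = eP hK 0 t 0 := by
  have hd : GeneralLinearGroup.det (T01 t) = 1 := Units.ext (by simp [GeneralLinearGroup.val_det_apply, T01_val])
  show psiS hK hm (nrm hK (T01 t)) * scP hK (rtK hK (GeneralLinearGroup.det (T01 t))) = _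
  rw [hd, map_one, map_one, mul_one,
    show nrm hK (T01 t) = rho hK ⟨eP hK 0 t 0, RT_le_Mk hK 0 (eP_mem hK 0 t 0)⟩ from Subtype.ext (by
      rw [rho_zero]; show _ • (T01 t).1 = _; rw [hd, map_one, inv_one, Units.val_one, one_smul, T01_val]), psiS_rho]

theorem phi_T10 (hm : 1 ≤ m) (t : K) : phi hK hm (T10 t) = eP hK 8 t 0 := by
  have hd : GeneralLinearGroup.det (T10 t) = 1 := Units.ext (by simp [GeneralLinearGroup.val_det_apply, T10_val])
  show psiS hK hm (nrm hK (T10 t)) * scP hK (rtK hK (GeneralLinearGroup.det (T10 t))) = _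
  rw [hd, map_one, map_one, mul_one,
    show nrm hK (T10 t) = rho hK ⟨eP hK 8 t 0, RT8_le_Mk hK 0 (eP_mem hK 8 t 0)⟩ from Subtype.ext (by
      rw [rho_eight]; show _ • (T10 t).1 = _; rw [hd, map_one, inv_one, Units.val_one, one_smul, T10_val]), psiS_rho]

theorem phi_dg (hm : 1 ≤ m) (a b : Kˣ) : phi hK hm (dg a b) = hP hK (a, a * b) := by
  obtain ⟨s, hs⟩ : ∃ s, s = rtK hK (a * b) := ⟨_, rfl⟩
  have hss : s * s = a * b := hs ▸ rtK_sq hK _
  have hd : GeneralLinearGroup.det (dg a b) = a * b :=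
    Units.ext (by simp [GeneralLinearGroup.val_det_apply, dg_val, det_fin_two])
  have hn : nrm hK (dg a b) = rho hK ⟨tor hK 0 (a * s⁻¹), tor_mem_Mk hK 0 _⟩ := by
    refine Subtype.ext ?_
    rw [rho_tor]
    show _ • (dg a b).1 = _
    rw [hd, ← hs, dg_val]
    have h := congrArg Units.val hss
    simp only [Units.val_mul] at h
    have := a.ne_zero
    have := s.ne_zero
    ext i j; fin_cases i <;> fin_cases j <;> simp [mul_comm] <;> field_simp <;> linear_combination -h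
  show psiS hK hm (nrm hK (dg a b)) * scP hK (rtK hK (GeneralLinearGroup.det (dg a b))) = _
  rw [hn, psiS_rho, hd, ← hs]
  show hP hK (tc 0 (a * s⁻¹)) * hP hK (s, s * s) = _
  rw [← map_mul, hss]
  congr 1
  simp [tc]

theorem phi_jm (hm : 1 ≤ m) : phi hK hm (jm K) = naP hK := by
  have := charF4 hK
  rw [jm_eq, map_mul, map_mul, phi_T01, phi_T10, naP_eq]

theorem hP_phi (hm : 1 ≤ m) (h : Kˣ × Kˣ) : hP hK h = phi hK hm (dg h.1 (h.1⁻¹ * h.2)) := by
  rw [phi_dg, mul_inv_cancel_left]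

/-! ### the radicals -/

/-- the upper radical -/
noncomputable def UA : Subgroup ↥(GP hK) := SB hK (rsp 1 7)

/-- the lower radical -/
noncomputable def VA : Subgroup ↥(GP hK) := cj (n0 hK) (UA hK)

theorem UA_eq : UA hK = Keep hK 0 := rfl

theorem RT_le_UA {i : ZMod 16} (hi : i.val < 8) (hne : i ≠ 0) : RT hK i ≤ UA hK := RT_le_Keep hK 0 hi hne

theorem RT_le_VA {i : ZMod 16} (hi : (i + 8).val < 8) (hne : i + 8 ≠ 0) : RT hK i ≤ VA hK := by
  rintro x ⟨t, u, rfl⟩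
  refine ⟨eP hK (i + 8) t u, RT_le_UA hK hi hne (eP_mem hK _ t u), ?_⟩
  show n0 hK * eP hK (i + 8) t u * (n0 hK)⁻¹ = eP hK i t u
  rw [ex_n0 hK]
  show eP hK (i + 8 + 8) t u = _
  rw [add_assoc, show (8 : ZMod 16) + 8 = 0 by decide, add_zero]

theorem n0_dg (a b : Kˣ) : n0 hK * hP hK (a, a * b) * (n0 hK)⁻¹ = hP hK (a⁻¹, a⁻¹ * b⁻¹) := by
  obtain ⟨g, e, hg⟩ := exists_conj_hP hK (ex_n0 hK) (n0_norm hK) (a, a * b)
  rw [e]
  have key : ∀ i, wt i = (-1 * (wt (i + 8)).1, -1 * (wt (i + 8)).2) := by decide +kernel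
  have hi : ((a, a * b) : Kˣ × Kˣ)⁻¹ = (a⁻¹, a⁻¹ * b⁻¹) := Prod.ext rfl (mul_inv a b)
  have h2 : ∀ i, chr m (wt (i + 8)) g = chr m (wt (i + 8)) ((a, a * b) : Kˣ × Kˣ)⁻¹ := by
    intro i
    rw [hg, key i, chr_smul hK, show (-1 : ℤ√2) = ((-1 : ℤ) : ℤ√2) by norm_num, pw_int, _root_.zpow_neg_one]
    exact (eq_inv_of_mul_eq_one_left (by rw [← chr_mul_arg, inv_mul_cancel]; simp [chr, pw])).symm
  rw [← hi]
  refine chr_ext hK (v := wt (8 + 8)) (w := wt (15 + 8)) ?_ (h2 8) (h2 15)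
  decide +kernel

/-- the opposite element induces transpose inverse -/
theorem n0_phi (hm : 1 ≤ m) (A : GL (Fin 2) K) : n0 hK * phi hK hm A * (n0 hK)⁻¹ = phi hK hm (tinv A) := by
  have := charF4 hK
  induction A using gl_induction with
  | hd a b => rw [tinv_dg, phi_dg, phi_dg, n0_dg hK]
  | h01 t => rw [tinv_T01, phi_T01, phi_T10, ex_n0 hK]; rfl
  | h10 t => rw [tinv_T10, phi_T01, phi_T10, ex_n0 hK]; rfl
  | hm A B hA hB =>
    rw [map_mul, map_mul, map_mul, ← hA, ← hB]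
    group

theorem n0_phi' (hm : 1 ≤ m) (A : GL (Fin 2) K) : (n0 hK)⁻¹ * phi hK hm A * n0 hK = phi hK hm (tinv A) := by
  rw [← n0_phi hK hm, n0_inv hK hm]

theorem phi_UA (hm : 1 ≤ m) (A : GL (Fin 2) K) : ∀ {x : ↥(GP hK)}, x ∈ UA hK →
    phi hK hm A * x * (phi hK hm A)⁻¹ ∈ UA hK := by
  induction A using gl_induction with
  | hd a b => intro x hx; rw [phi_dg]; exact HB_SB hK (hP_mem hK _) hx
  | h01 t => intro x hx; rw [phi_T01]; exact RT_Keep hK 0 (eP_mem hK 0 t 0) hx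
  | h10 t => intro x hx; rw [phi_T10]; exact RT8_Keep hK 0 (eP_mem hK 8 t 0) hx
  | hm A B hA hB =>
    intro x hx
    rw [map_mul, show phi hK hm A * phi hK hm B * x * (phi hK hm A * phi hK hm B)⁻¹ =
      phi hK hm A * (phi hK hm B * x * (phi hK hm B)⁻¹) * (phi hK hm A)⁻¹ by group]
    exact hA (hB hx)

theorem phi_UA' (hm : 1 ≤ m) (A : GL (Fin 2) K) {x : ↥(GP hK)} (hx : x ∈ UA hK) :
    (phi hK hm A)⁻¹ * x * phi hK hm A ∈ UA hK := by
  have := phi_UA hK hm A⁻¹ hx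
  rwa [map_inv, inv_inv] at this

theorem phi_VA (hm : 1 ≤ m) (A : GL (Fin 2) K) {x : ↥(GP hK)} (hx : x ∈ VA hK) :
    phi hK hm A * x * (phi hK hm A)⁻¹ ∈ VA hK := by
  obtain ⟨u, hu, rfl⟩ := hx
  refine ⟨phi hK hm (tinv A) * u * (phi hK hm (tinv A))⁻¹, phi_UA hK hm _ hu, ?_⟩
  show n0 hK * (phi hK hm (tinv A) * u * (phi hK hm (tinv A))⁻¹) * (n0 hK)⁻¹ =
    phi hK hm A * (n0 hK * u * (n0 hK)⁻¹) * (phi hK hm A)⁻¹
  rw [← n0_phi' hK hm A]
  group

theorem phi_VA' (hm : 1 ≤ m) (A : GL (Fin 2) K) {x : ↥(GP hK)} (hx : x ∈ VA hK) :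
    (phi hK hm A)⁻¹ * x * phi hK hm A ∈ VA hK := by
  have := phi_VA hK hm A⁻¹ hx
  rwa [map_inv, inv_inv] at this

/-- elements of the Borel subgroup in the parabolic -/
theorem Bo_phi (hm : 1 ≤ m) {b : ↥(GP hK)} (hb : b ∈ Bo hK) :
    ∃ (A : GL (Fin 2) K), ∃ u ∈ UA hK, b = phi hK hm A * u := by
  obtain ⟨h, hh, p, hp, r, ⟨t, v, rfl⟩, rfl⟩ := Bo_split hK 0 hb
  obtain ⟨g, rfl⟩ := exists_hP hK hh
  have er : eP hK (dk 0) t v = phi hK hm (T01 t) := by rw [phi_T01]; rfl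
  refine ⟨dg g.1 (g.1⁻¹ * g.2) * T01 t, (phi hK hm (T01 t))⁻¹ * p * phi hK hm (T01 t), phi_UA' hK hm _ hp, ?_⟩
  rw [map_mul, ← hP_phi, er]
  group

end CfsgLib.Known.ReeFourSquare
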