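import Cfsg.Agent.Lib.Known.ReeFourSquare.Bruhat
import Cfsg.Agent.Lib.Known.ReeFourSquare.Class

/-!
# The middle cell, and the class square covers the large Ree group
-/

set_option autoImplicit false

namespace CfsgLib.Known.ReeFourSquare

open Cfsg.Lie
open CfsgLib.Lie.Chev CfsgLib.Lie.Chev.TwGroups CfsgLib.Lie.Chev.TwGroups.F4Mult
open CfsgLib.Known.SmallSquare CfsgLib.Known.SmallSquare.G2
open Matrix

universe u

/-- the collected product, in exponents of the four atoms -/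
def w27 : List MonCollect.Term :=
  [(27, [0, 0, 0, 1]), (25, [0, 0, 1]), (28, [0, 0, 1, 1]), (40, [0, 1, 1, 1]), (46, [1, 0, 1, 2]),
    (39, [0, 1, 1]), (45, [1, 0, 0, 2]), (44, [1, 0, 0, 1]), (47, [0, 2, 1])]

open F4Inv in
theorem tab27 : MonCollect.chkSame chevF4 (w5 (some 0) ++ w1 (some 1) none ++ w5 (some 0)) w27 = true := by
  decide +kernel

variable {K : Type u} [Field K] [Fintype K] {m : ℕ} (hK : Fintype.card K = 2 ^ (2 * m + 1))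

/-- a product of three root elements at distance five -/
theorem prod27 (a : K) : eP hK 2 (1 : K) 0 * eP hK 7 a 0 * eP hK 2 (1 : K) 0 =
    eP hK 7 a 0 * eP hK 5 0 (a * frF4 hK a) * eP hK 4 (frF4 hK a ^ (2 : ℕ)) 0 * eP hK 3 0 (frF4 hK a) := by
  have := charF4 hK
  refine Subtype.ext ?_
  have h := MonCollect.word_eq_of_chk (chevRel certF4 K) (F4Inv.atoms (frF4 hK) [1, a]) tab27
  simp only [MonCollect.word_append] at h
  rw [show F4Inv.w5 = F4Inv.wA 38 43 from rfl, show F4Inv.w1 = F4Inv.wB 27 25 28 30 from rfl,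
    F4Inv.word_wA (frF4 hK) _ _ _ _ (by simp [F4Inv.inR]),
    F4Inv.word_wB (frF4 hK) _ _ _ _ _ _ _ (by simp [F4Inv.inR]) (by simp [F4Inv.inR])] at h
  have z : ∀ r, xG certF4 K r (0 : K) = 1 := (RR K).xe_zero
  have fx : ∀ x : K, frF4 hK (frF4 hK x) ^ (2 : ℕ) = x := F4Inv.frF4_fix hK
  show F4Inv.cA (frF4 hK) 38 43 (1 : K) * F4Inv.cB (frF4 hK) 27 25 28 30 a 0 * F4Inv.cA (frF4 hK) 38 43 1 =
    F4Inv.cB (frF4 hK) 27 25 28 30 a 0 * F4Inv.cB (frF4 hK) 35 31 40 46 0 (a * frF4 hK a) *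
      F4Inv.cA (frF4 hK) 39 45 (frF4 hK a ^ (2 : ℕ)) * F4Inv.cB (frF4 hK) 29 41 44 47 0 (frF4 hK a)
  refine (show _ = _ from by simpa [F4Inv.po] using h).trans ?_
  simp only [MonCollect.word, w27, MonCollect.val, List.map_cons, List.map_nil, List.prod_cons, List.prod_nil, mul_one,
    F4Inv.cA, F4Inv.cB, F4Inv.atoms, MonCollect.mon, List.flatMap_cons, List.flatMap_nil, List.cons_append,
    List.nil_append, map_zero, map_one, map_mul, map_pow, mul_pow, pow_zero, pow_one, zero_mul, zero_add, add_zero,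
    zero_pow two_ne_zero, one_mul, one_pow, z, fx, F4Inv.X, mul_assoc]
  simp only [mul_comm]; rfl

/-- the same four directions further -/
theorem prod611 (a : K) : eP hK 6 (1 : K) 0 * eP hK 11 a 0 * eP hK 6 (1 : K) 0 =
    eP hK 11 a 0 * eP hK 9 0 (a * frF4 hK a) * eP hK 8 (frF4 hK a ^ (2 : ℕ)) 0 * eP hK 7 0 (frF4 hK a) := by
  have h := congrArg (MulAut.conj (rotP hK ^ 2)) (prod27 hK a)
  simp only [map_mul, MulAut.conj_apply, ex_rot_pow hK 2 _] at h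
  have e : ∀ k : ZMod 16, k + 2 * ((2 : ℕ) : ZMod 16) = k + 4 := by decide +kernel
  simp only [e, show (2 : ZMod 16) + 4 = 6 by decide, show (7 : ZMod 16) + 4 = 11 by decide,
    show (5 : ZMod 16) + 4 = 9 by decide, show (4 : ZMod 16) + 4 = 8 by decide,
    show (3 : ZMod 16) + 4 = 7 by decide] at h
  exact h

theorem refTab : wt 11 = (-1 * (wt 3).1, -1 * (wt 3).2) ∧ indepB (wt 3) (wt 7) = true ∧
    sel (1 : Fin 2) (wt 11) = ((0 : ℤ) : ℤ√2) := by decide +kernel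

/-- the rank one relation along the third direction -/
theorem exists_opp (hm : 1 ≤ m) {d : Kˣ × Kˣ} (hd : chr m (wt 7) d = 1) :
    ∃ a : K, a ≠ 0 ∧ ∃ p ∈ RT hK 3, ∃ p' ∈ RT hK 3, eP hK 11 a 0 = p * (hP hK d * refM hK) * p' := by
  obtain ⟨g, hgdef⟩ : ∃ g, g = nbP hK * naP hK * (nbP hK * naP hK) := ⟨_, rfl⟩
  have hg : Ex hK g (· - 4) := hgdef ▸ (((ex_nb hK).mul (ex_na hK)).mul ((ex_nb hK).mul (ex_na hK))).congr fun k => by
    show (6 : ZMod 16) - (8 - (6 - (8 - k))) = k - 4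
    ring
  have hgn : g ∈ Subgroup.normalizer (HB hK : Set ↥(GP hK)) :=
    hgdef ▸ mul_mem (mul_mem (nb_norm hK) (na_norm hK)) (mul_mem (nb_norm hK) (na_norm hK))
  have hne : eP hK 15 (1 : K) 0 ≠ 1 := fun e => one_ne_zero (α := K)
    (el_inj hK 15 (congrArg Subtype.val (e.trans (eP_zero hK 15).symm))).1
  rcases rank_rel hK hm 1 _ (show eP hK 15 (1 : K) 0 ∈ RT hK (dk 1 + 8) from eP_mem hK 15 1 0) with
    h | ⟨p, hp, t, ht, p', hp', e⟩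
  · exact absurd h hne
  have htM : t ∈ Mk hK 1 := by
    rw [show t = p⁻¹ * eP hK 15 (1 : K) 0 * p'⁻¹ * (nP hK 1)⁻¹ by rw [e]; group]
    exact mul_mem (mul_mem (mul_mem (inv_mem (RT_le_Mk hK 1 hp)) (RT8_le_Mk hK 1 (eP_mem hK 15 1 0)))
      (inv_mem (RT_le_Mk hK 1 hp'))) (inv_mem (nP_mem hK 1))
  obtain ⟨d0, rfl⟩ := torus_Mk hK 1 ht htM
  obtain ⟨e0, he0, hc0⟩ := exists_conj_hP hK hg hgn (tc 1 d0)
  have hN : g * nP hK 1 * g⁻¹ = refM hK :=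
    Ex.ext hm (((hg.mul (ex_nb hK)).mul (hg.inv (ρ := (· + 4)) fun k => add_sub_cancel_right k 4)).congr
      (by decide +kernel)) (ex_refM hK)
  have h7 : chr m (wt 7) e0 = 1 := (hc0 11).trans (by rw [chr_tc, refTab.2.2, pw_int, _root_.zpow_zero])
  obtain ⟨f, hf⟩ := units_sq_surj hK (chr m (wt 3) d * (chr m (wt 3) e0)⁻¹)
  obtain ⟨c, hc3, hc7⟩ := exists_chr_eq hK refTab.2.1 f 1
  obtain ⟨c', ec', hc'⟩ := exists_conj_hP hK (ex_refM hK) (refM_norm hK) c⁻¹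
  have hinv : ∀ w, chr m w c⁻¹ = (chr m w c)⁻¹ := fun w =>
    eq_inv_of_mul_eq_one_left (by rw [← chr_mul_arg, inv_mul_cancel]; simp [chr, pw])
  have key : hP hK (c * e0 * c') = hP hK d := by
    refine chr_ext hK refTab.2.1 ?_ ?_
    · have h3 : chr m (wt 3) c' = f := (hc' 11).trans (by
        rw [hinv, refTab.1, chr_smul hK, hc3, show (-1 : ℤ√2) = ((-1 : ℤ) : ℤ√2) by norm_num, pw_int,
          _root_.zpow_neg_one, inv_inv])
      rw [chr_mul_arg, chr_mul_arg, hc3, h3, mul_right_comm, hf, inv_mul_cancel_right]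
    · have h3 : chr m (wt 7) c' = 1 := (hc' 7).trans (by rw [hinv, hc7, inv_one])
      rw [chr_mul_arg, chr_mul_arg, hc7, h7, h3, hd, mul_one, mul_one]
  refine ⟨(chr m (wt 11) c : K), Units.ne_zero _, hP hK c * (g * p * g⁻¹) * (hP hK c)⁻¹,
    HB_RT hK (hP_mem hK c) (hg.RT hp), hP hK c * (g * p' * g⁻¹) * (hP hK c)⁻¹, HB_RT hK (hP_mem hK c) (hg.RT hp'), ?_⟩
  have hx : eP hK 11 (chr m (wt 11) c : K) 0 = hP hK c * (g * eP hK 15 (1 : K) 0 * g⁻¹) * (hP hK c)⁻¹ := by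
    rw [hg, show (fun x : ZMod 16 => x - 4) 15 = 11 by decide, hP_eP, mul_one, mul_zero]
  rw [← key, hx, e, map_mul, map_mul, ← ec', ← he0, map_inv, ← hN]
  show _ = _ * (_ * (g * hP hK (tc 1 d0) * g⁻¹) * _ * _) * _
  rw [show tor hK 1 d0 = hP hK (tc 1 d0) from rfl]
  group

/-- the element of the middle cell -/
theorem mid_sq (hm : 1 ≤ m) {c : Kˣ} (hc : c ≠ 1) {g : ↥(GP hK)} (hF : Form hK g (aff true 14)) :
    Form hK g (aff false 8) ∨ IsSq hK hm c g := by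
  have := charF4 hK
  obtain ⟨z, b, w, hb, hw, e⟩ := hF
  obtain rfl : w = refM hK := hw.ext hm ((ex_refM hK).congr fun k => rfl)
  obtain ⟨h, hh, p, hp, r, hr, rfl⟩ := Bo_split hK 1 hb
  obtain ⟨hh', rfl⟩ := exists_hP hK hh
  have toFar : ∀ {p r z : ↥(GP hK)}, p ∈ Keep hK 1 → r ∈ RT hK (dk 1) → r ≠ 1 →
      z * g * z⁻¹ = hP hK hh' * p * r * refM hK → Form hK g (aff false 8) := fun hp hr hr1 e =>
    (push hK hm 1 hw hh hp hr hr1 e (j := 15) (by decide +kernel) (by decide +kernel)).congr hK (by decide +kernel)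
  by_cases hr1 : r = 1
  swap
  · exact Or.inl (toFar hp hr hr1 e)
  subst hr1
  rw [mul_one] at e
  by_cases hchi : chr m (wt 7) hh' = 1
  swap
  · left
    obtain ⟨r0, hr0⟩ : ∃ r0, r0 = eP hK 7 (1 : K) 0 := ⟨_, rfl⟩
    obtain ⟨R0, hR0⟩ : ∃ R0, R0 = hP hK hh' * r0 * (hP hK hh')⁻¹ := ⟨_, rfl⟩
    have hr0m : r0 ∈ RT hK (dk 1) := hr0 ▸ eP_mem hK 7 1 0
    have hR0m : R0 ∈ RT hK (dk 1) := hR0 ▸ HB_RT hK hh hr0m
    have hne : r0 * R0⁻¹ ≠ 1 := fun h1 => hchi (Units.ext (by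
      have h2 : r0 = R0 := mul_inv_eq_one.1 h1
      rw [hR0, hr0, hP_eP] at h2
      simpa using ((el_inj hK 7 (congrArg Subtype.val h2)).1).symm))
    have hM : refM hK * R0⁻¹ = R0⁻¹ * refM hK := by
      obtain ⟨t, u, ht⟩ := inv_mem hR0m
      rw [ht, ← mul_inv_eq_iff_eq_mul, ex_refM hK]
      rfl
    refine toFar (RT_Keep hK 1 hr0m hp) (mul_mem hr0m (inv_mem hR0m)) hne (z := R0 * z) ?_
    rw [show R0 * z * g * (R0 * z)⁻¹ = R0 * (z * g * z⁻¹) * R0⁻¹ by group, e,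
      mul_assoc R0 _ R0⁻¹, mul_assoc (hP hK hh' * p), hM]
    nth_rewrite 1 [hR0]
    group
  right
  obtain ⟨d, ed, hd⟩ := exists_conj_hP hK (ex_refM hK) (refM_norm hK) hh'
  obtain ⟨a, ha, p1, hp1, p2, hp2, ex⟩ := exists_opp hK hm ((hd 7).trans hchi)
  obtain ⟨u0, hu0def⟩ : ∃ u0, u0 = p2⁻¹ * p * p1⁻¹ := ⟨_, rfl⟩
  have hu0 : u0 ∈ UP8 hK := hu0def ▸ mul_mem (mul_mem (inv_mem (RT_le_UP8 hK (by decide) hp2)) (Keep_le_UP8 hK 1 hp))
    (inv_mem (RT_le_UP8 hK (by decide) hp1))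
  refine IsSq.conj hK hm c (u0⁻¹ * p2⁻¹ * (hP hK hh')⁻¹ * z) ?_
  have e1 : u0⁻¹ * p2⁻¹ * (hP hK hh')⁻¹ * z * g * (u0⁻¹ * p2⁻¹ * (hP hK hh')⁻¹ * z)⁻¹ =
      eP hK 11 a 0 * u0 := by
    rw [show u0⁻¹ * p2⁻¹ * (hP hK hh')⁻¹ * z * g * (u0⁻¹ * p2⁻¹ * (hP hK hh')⁻¹ * z)⁻¹ =
      u0⁻¹ * p2⁻¹ * (hP hK hh')⁻¹ * (z * g * z⁻¹) * hP hK hh' * p2 * u0 by group, e, ex, ← ed, hu0def]
    group
  rw [e1]
  obtain ⟨q, hq, r, ⟨s, v, rfl⟩, rfl⟩ := UP8_split hK 0 hu0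
  have hs : eP hK (dk 0) s v = phi hK hm (T01 s) := by rw [phi_T01]; rfl
  obtain ⟨u, hu⟩ : ∃ u, u = (phi hK hm (T01 s))⁻¹ * q * phi hK hm (T01 s) := ⟨_, rfl⟩
  have huU : u ∈ UA hK := hu ▸ phi_UA' hK hm _ hq
  have hxV : eP hK 11 a 0 ∈ VA hK := RT_le_VA hK (by decide) (by decide) (eP_mem hK _ _ _)
  rw [show eP hK 11 a 0 * (q * eP hK (dk 0) s v) = eP hK 11 a 0 * phi hK hm (T01 s) * u by rw [hs, hu]; group]
  by_cases hs0 : s = 0
  · refine isSq_cell hK hm hc ⟨by simp [T01_val, det_fin_two], Or.inl ?_⟩ hxV huU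
    rw [T01_val, hs0]
    ext i j; fin_cases i <;> fin_cases j <;> simp
  obtain ⟨Z, hZ⟩ : ∃ Z, Z = eP hK 6 (1 : K) 0 := ⟨_, rfl⟩
  have hZU : Z ∈ UA hK := hZ ▸ RT_le_UA hK (by decide) (by decide) (eP_mem hK _ _ _)
  have hZ2 : Z * Z = 1 := by
    rw [hZ, eP_mul, CharTwo.add_self_eq_zero]
    exact eP_of_t0 hK 6 fun h => absurd h (by decide)
  refine IsSq.conj hK hm c Z ?_
  obtain ⟨f, hf⟩ : ∃ f, f = frF4 hK a ^ (2 : ℕ) := ⟨_, rfl⟩
  have hf0 : f ≠ 0 := hf ▸ pow_ne_zero _ ((map_ne_zero _).2 ha)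
  obtain ⟨R, hR⟩ : ∃ R, R = eP hK 7 (0 : K) (frF4 hK a) := ⟨_, rfl⟩
  have hRU : R ∈ UA hK := hR ▸ RT_le_UA hK (by decide) (by decide) (eP_mem hK _ _ _)
  have k := prod611 hK a
  rw [← hZ, ← hf, ← hR, ← phi_T10 hK hm] at k
  have e2 : Z * (eP hK 11 a 0 * phi hK hm (T01 s) * u) * Z⁻¹ =
      eP hK 11 a 0 * eP hK 9 0 (a * frF4 hK a) * phi hK hm (T10 f * T01 s) *
        ((phi hK hm (T01 s))⁻¹ * (R * Z) * phi hK hm (T01 s) * u * Z⁻¹) := by
    rw [show Z * (eP hK 11 a 0 * phi hK hm (T01 s) * u) * Z⁻¹ =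
      Z * eP hK 11 a 0 * Z * (Z⁻¹ * phi hK hm (T01 s) * u * Z⁻¹) by group, k,
      show Z⁻¹ = Z from inv_eq_of_mul_eq_one_right hZ2, map_mul]
    group
  rw [e2]
  refine isSq_cell hK hm hc ⟨by simp [T10_val, T01_val, det_fin_two]; ring, Or.inr ⟨?_, ?_⟩⟩
    (mul_mem hxV (RT_le_VA hK (by decide) (by decide) (eP_mem hK _ _ _)))
    (mul_mem (mul_mem (phi_UA' hK hm _ (mul_mem hRU hZU)) huU) (inv_mem hZU))
  · rintro ⟨x, hx⟩
    have := congrFun (congrFun hx 1) 0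
    simp [T10_val, T01_val, mul_apply, Fin.sum_univ_two, hf0] at this
  · rw [Units.val_mul, T10_val, T01_val, trace_fin_two]
    simp [mul_apply, Fin.sum_univ_two]
    intro h
    exact mul_ne_zero hf0 hs0 (by linear_combination h)

theorem covers (hm : 1 ≤ m) {c : Kˣ} (hc : c ≠ 1) {g : ↥(GP hK)} (hg : g ≠ 1) : IsSq hK hm c g := by
  have far : ∀ (z b w : ↥(GP hK)) (D : GL (Fin 2) K), b ∈ Bo hK → w = n0 hK * phi hK hm D →
      z * g * z⁻¹ = b * w → IsSq hK hm c g := by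
    intro z b w D hb hw e
    obtain ⟨A, u, hu, rfl⟩ := Bo_phi hK hm hb
    refine IsSq.conj hK hm c ((phi hK hm A * u)⁻¹ * z) ?_
    rw [show (phi hK hm A * u)⁻¹ * z * g * ((phi hK hm A * u)⁻¹ * z)⁻¹ =
      (phi hK hm A * u)⁻¹ * (z * g * z⁻¹) * (phi hK hm A * u) by group, e, hw,
      show (phi hK hm A * u)⁻¹ * (phi hK hm A * u * (n0 hK * phi hK hm D)) * (phi hK hm A * u) =
        n0 hK * phi hK hm (D * A) * u by rw [map_mul]; group]
    exact far_sq hK hm hc _ hu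
  have far8 : Form hK g (aff false 8) → IsSq hK hm c g := by
    rintro ⟨z, b, w, hb, hw, e⟩
    refine far z b w 1 hb ?_ e
    rw [map_one, mul_one]
    exact hw.ext hm ((ex_n0 hK).congr fun k => (add_comm k 8).trans rfl)
  rcases exists_cell hK hm hg with h | ⟨z, b, w, hb, hw, e⟩ | h
  · exact far8 h
  · refine far z b w (GLA.jm K) hb ?_ e
    rw [phi_jm]
    exact hw.ext hm (((ex_n0 hK).mul (ex_na hK)).congr (by decide +kernel))
  · exact (mid_sq hK hm hc h).elim far8 id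

include hK in
/-- the class square theorem for the large Ree groups -/
theorem square (hm : 1 ≤ m) : ∃ x : ↥(twistedF4 K (2 ^ m)), Odd (orderOf x) ∧
    ∀ g : ↥(twistedF4 K (2 ^ m)), g ≠ 1 → ∃ u v : ↥(twistedF4 K (2 ^ m)), g = (u * x * u⁻¹) * (v * x * v⁻¹) := by
  obtain ⟨c, hc⟩ := exists_ne_one hK hm
  let e : ↥(GP hK) ≃* ↥(twistedF4 K (2 ^ m)) := Subgroup.subgroupOfEquivOfLe twF4_le
  refine ⟨e (xRep hK hm c), by rw [MulEquiv.orderOf_eq]; exact odd_order hK hm c, fun g hg => ?_⟩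
  obtain ⟨g, rfl⟩ := e.surjective g
  obtain ⟨u, v, huv⟩ := covers hK hm hc (g := g) fun h => hg (by rw [h, map_one])
  refine ⟨e u, e v, ?_⟩
  rw [huv]
  simp

end CfsgLib.Known.ReeFourSquare
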