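import Cfsg.Agent.Lib.Known.ReeFourSquare.Levi

/-!
# Every symmetric matrix occurs in the big cell
-/

set_option autoImplicit false

namespace CfsgLib.Known.ReeFourSquare

open Cfsg.Lie
open CfsgLib.Lie.Chev CfsgLib.Lie.Chev.TwGroups CfsgLib.Lie.Chev.TwGroups.F4Mult
open CfsgLib.Known.SmallSquare.G2 GLA
open Matrix

universe u

open F4Inv in
theorem tab04 : MonCollect.chkSame chevF4 (w0 (some 0) ++ w7 (some 1)) (w7 (some 1) ++ w0 (some 0)) = true := by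
  decide +kernel

variable {K : Type u} [Field K] [Fintype K] {m : ℕ} (hK : Fintype.card K = 2 ^ (2 * m + 1))

theorem comm04 : ∀ x ∈ RT hK 0, ∀ y ∈ RT hK 4, Commute x y := by
  have := charF4 hK
  rintro _ ⟨t, u, rfl⟩ _ ⟨s, v, rfl⟩
  refine Subtype.ext ?_
  show F4Inv.cA (frF4 hK) 33 24 t * F4Inv.cA (frF4 hK) 39 45 s = F4Inv.cA (frF4 hK) 39 45 s * F4Inv.cA (frF4 hK) 33 24 t
  have h := MonCollect.word_eq_of_chk (chevRel certF4 K) (F4Inv.atoms (frF4 hK) [t, s]) tab04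
  simp only [MonCollect.word_append] at h
  rw [show F4Inv.w0 = F4Inv.wA 33 24 from rfl, show F4Inv.w7 = F4Inv.wA 39 45 from rfl,
    F4Inv.word_wA (frF4 hK) _ _ _ _ (by simp [F4Inv.inR]), F4Inv.word_wA (frF4 hK) _ _ _ _ (by simp [F4Inv.inR])] at h
  simpa [F4Inv.po] using h

theorem comm4 (j : ℕ) : ∀ x ∈ RT hK (2 * (j : ZMod 16)), ∀ y ∈ RT hK (4 + 2 * (j : ZMod 16)), Commute x y := by
  intro x hx y hy
  have h := comm04 hK _ ((ex_rot_pow hK j).RT_inv (j := 0) (zero_add _) hx) _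
    ((ex_rot_pow hK j).RT_inv (j := 4) rfl hy)
  generalize rotP hK ^ j = g at h
  calc x * y = g * (g⁻¹ * x * g * (g⁻¹ * y * g)) * g⁻¹ := by group
    _ = g * (g⁻¹ * y * g * (g⁻¹ * x * g)) * g⁻¹ := by rw [h.eq]
    _ = y * x := by group

/-- the two commuting conjugates of the first rank one subgroup -/
theorem comm_Mk {x y : ↥(GP hK)} (hx : x ∈ Mk hK 0) (hy : y ∈ Mk hK 0) :
    Commute (rotP hK * x * (rotP hK)⁻¹) (nbP hK * y * (nbP hK)⁻¹) := by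
  have key : ∀ i ∈ [(0 : ZMod 16), 8], ∀ i' ∈ [(0 : ZMod 16), 8], ∀ x ∈ RT hK i, ∀ y ∈ RT hK i',
      Commute (rotP hK * x * (rotP hK)⁻¹) (nbP hK * y * (nbP hK)⁻¹) := by
    intro i hi i' hi' x hx y hy
    have h1 := (ex_rot hK).RT hx
    have h2 := (ex_nb hK).RT hy
    simp only [List.mem_cons, List.not_mem_nil, or_false] at hi hi'
    rcases hi with rfl | rfl <;> rcases hi' with rfl | rfl
    · exact comm4 hK 1 _ h1 _ h2
    · exact (comm4 hK 7 _ h2 _ h1).symm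
    · exact (comm4 hK 3 _ h2 _ h1).symm
    · exact comm4 hK 5 _ h1 _ h2
  have step : ∀ i' ∈ [(0 : ZMod 16), 8], ∀ y ∈ RT hK i',
      Commute (rotP hK * x * (rotP hK)⁻¹) (nbP hK * y * (nbP hK)⁻¹) := by
    intro i' hi' y hy
    have hle : Mk hK 0 ≤ (Subgroup.centralizer {nbP hK * y * (nbP hK)⁻¹}).comap (MulAut.conj (rotP hK)).toMonoidHom :=
      sup_le (fun x hx => Subgroup.mem_centralizer_singleton_iff.2 (key 0 (by simp) i' hi' x hx y hy).eq)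
        fun x hx => Subgroup.mem_centralizer_singleton_iff.2 (key 8 (by simp) i' hi' x hx y hy).eq
    exact Subgroup.mem_centralizer_singleton_iff.1 (hle hx)
  have hle : Mk hK 0 ≤ (Subgroup.centralizer {rotP hK * x * (rotP hK)⁻¹}).comap (MulAut.conj (nbP hK)).toMonoidHom :=
    sup_le (fun y hy => Subgroup.mem_centralizer_singleton_iff.2 (step 0 (by simp) y hy).symm.eq)
      fun y hy => Subgroup.mem_centralizer_singleton_iff.2 (step 8 (by simp) y hy).symm.eq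
  exact (Subgroup.mem_centralizer_singleton_iff.1 (hle hy)).symm

/-- a matrix in the big cell -/
def InSig (hm : 1 ≤ m) (Q : GL (Fin 2) K) : Prop :=
  ∃ z ∈ UA hK, ∃ v ∈ VA hK, ∃ u ∈ UA hK, z * n0 hK = v * phi hK hm Q * u

include hK in
theorem T01_split (t : Kˣ) : T01 (t : K) = T10 (t : K)⁻¹ * (dg t t⁻¹ * jm K) * T10 (t : K)⁻¹ := by
  have := charF4 hK
  refine Units.ext ?_
  simp only [Units.val_mul, T01_val, T10_val, dg_val, jm_val]
  have := t.ne_zero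
  ext i j
  fin_cases i <;> fin_cases j <;> simp [mul_apply, Fin.sum_univ_two, CharTwo.add_self_eq_zero]

/-- a conjugate of the relation in `SL(2)` -/
theorem split_conj (hm : 1 ≤ m) (g : ↥(GP hK)) {π : ZMod 16 → ZMod 16} (hg : Ex hK g π) (t : Kˣ) :
    eP hK (π 0) (t : K) 0 = eP hK (π 8) (t : K)⁻¹ 0 *
      ((g * hP hK (t, 1) * g⁻¹) * (g * naP hK * g⁻¹)) * eP hK (π 8) (t : K)⁻¹ 0 := by
  have h := congrArg (phi hK hm) (T01_split hK t)
  rw [map_mul, map_mul, map_mul, phi_T01, phi_T10, phi_dg, phi_jm, mul_inv_cancel] at h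
  rw [← hg 0, ← hg 8, h]
  group

include hK in
theorem pw_surj {d : ℤ√2} (hd : unitB d = true) : Function.Surjective (pw (K := K) m d) := by
  refine Finite.surjective_of_injective fun x y e => mul_inv_eq_one.1 (pw_eq_one hK hd ?_)
  have hy : pw m d y⁻¹ = (pw m d y)⁻¹ :=
    eq_inv_of_mul_eq_one_left (by rw [← pw_mul_arg, inv_mul_cancel, pw_one_arg])
  rw [pw_mul_arg, hy, e, mul_inv_cancel]

omit [Fintype K] in
theorem chr_fst (w : (ℤ√2) × (ℤ√2)) (t : Kˣ) : chr m w (t, 1) = pw m w.1 t := by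
  rw [chr, pw_one_arg, mul_one]

/-- the antidiagonal matrices -/
theorem sig_jm (hm : 1 ≤ m) (a : Kˣ) : InSig hK hm (dg a a * jm K) := by
  obtain ⟨t, ht⟩ : ∃ t, t = pw m (⟨-1, 1⟩ : ℤ√2) a := ⟨_, rfl⟩
  obtain ⟨g, hgdef⟩ : ∃ g, g = nbP hK * naP hK * nbP hK := ⟨_, rfl⟩
  have hg : Ex hK g (4 - ·) := hgdef ▸
    (((ex_nb hK).mul (ex_na hK)).mul (ex_nb hK)).congr fun k => by
      show (6 : ZMod 16) - (8 - (6 - k)) = 4 - k
      ring
  have hgn : g ∈ Subgroup.normalizer (HB hK : Set ↥(GP hK)) :=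
    hgdef ▸ mul_mem (mul_mem (nb_norm hK) (na_norm hK)) (nb_norm hK)
  obtain ⟨e, he, hchr⟩ := exists_conj_hP hK hg hgn (t, 1)
  have h := split_conj hK hm g hg t
  rw [show (4 : ZMod 16) - 0 = 4 by decide, show (4 : ZMod 16) - 8 = 12 by decide, he] at h
  have hN : g * naP hK * g⁻¹ * n0 hK = naP hK :=
    Ex.ext hm ((((hg.mul (ex_na hK)).mul (hg.inv fun k => sub_sub_cancel 4 k)).mul (ex_n0 hK)).congr
      (by decide +kernel)) (ex_na hK)
  have heq : hP hK e = hP hK (a, a * a) := by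
    refine chr_ext hK (v := wt (4 - 4)) (w := wt (4 - 0)) (by decide +kernel) ?_ ?_
    · rw [hchr, chr_fst, show (4 : ZMod 16) - 4 = 0 by decide, chr_zero_sc, mul_inv_cancel,
        show (wt 4).1 = ((0 : ℤ) : ℤ√2) by decide +kernel, pw_int, _root_.zpow_zero]
    · rw [hchr, chr_fst, show (4 : ZMod 16) - 0 = 4 by decide, chr, show (wt 4).1 = ((0 : ℤ) : ℤ√2) by decide +kernel,
        show (wt 4).2 = (⟨-1, 1⟩ : ℤ√2) by decide +kernel, show (wt 0).1 = (2 : ℤ√2) by decide +kernel, pw_int,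
        _root_.zpow_zero, one_mul, pw_mul_arg, ht, pw_two, sq]
  refine ⟨eP hK 4 (t : K) 0, RT_le_UA hK (by decide) (by decide) (eP_mem hK _ _ _),
    eP hK 12 (t : K)⁻¹ 0, RT_le_VA hK (by decide) (by decide) (eP_mem hK _ _ _),
    (n0 hK)⁻¹ * eP hK 12 (t : K)⁻¹ 0 * n0 hK,
    RT_le_UA hK (i := 4) (by decide) (by decide) ((ex_n0 hK).RT_inv (by decide) (eP_mem hK _ _ _)), ?_⟩
  rw [map_mul, phi_dg, phi_jm, ← heq, h]
  calc _ = eP hK 12 (t : K)⁻¹ 0 * (hP hK e * (g * naP hK * g⁻¹ * n0 hK)) *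
        ((n0 hK)⁻¹ * eP hK 12 (t : K)⁻¹ 0 * n0 hK) := by group
    _ = _ := by rw [hN]

/-- the diagonal matrices -/
theorem sig_dg (hm : 1 ≤ m) (α β : Kˣ) : InSig hK hm (dg α β) := by
  obtain ⟨X, hX⟩ : ∃ X, X = chr m (wt 0) (α, α * β) := ⟨_, rfl⟩
  obtain ⟨Y, hY⟩ : ∃ Y, Y = chr m (wt 4) (α, α * β) := ⟨_, rfl⟩
  obtain ⟨S, hS⟩ := units_sq_surj hK (X * Y)
  obtain ⟨E, hE⟩ := units_sq_surj hK (X⁻¹ * Y)
  obtain ⟨s, hs⟩ := pw_surj hK (d := s2) (by decide +kernel) S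
  obtain ⟨e, he⟩ := pw_surj hK (d := s2) (by decide +kernel) E
  obtain ⟨h2, e2, c2⟩ := exists_conj_hP hK (ex_rot hK) (mul_mem (na_norm hK) (nb_norm hK)) (s, 1)
  obtain ⟨h6, e6, c6⟩ := exists_conj_hP hK (ex_nb hK) (nb_norm hK) (e, 1)
  have k2 := split_conj hK hm _ (ex_rot hK) s
  have k6 := split_conj hK hm _ (ex_nb hK) e
  rw [show (6 : ZMod 16) - 0 = 6 by decide, show (6 : ZMod 16) - 8 = 14 by decide] at k6
  rw [show (0 : ZMod 16) + 2 = 2 by decide, show (8 : ZMod 16) + 2 = 10 by decide] at k2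
  obtain ⟨A, hA⟩ : ∃ A, A = eP hK 10 (s : K)⁻¹ 0 := ⟨_, rfl⟩
  obtain ⟨B, hB⟩ : ∃ B, B = eP hK 14 (e : K)⁻¹ 0 := ⟨_, rfl⟩
  have hA' : A = rotP hK * eP hK 8 (s : K)⁻¹ 0 * (rotP hK)⁻¹ := by
    rw [hA, ex_rot hK]
    exact congrArg (fun k => eP hK k (s : K)⁻¹ 0) (by decide)
  have hB' : B = nbP hK * eP hK 8 (e : K)⁻¹ 0 * (nbP hK)⁻¹ := by
    rw [hB, ex_nb hK]
    exact congrArg (fun k => eP hK k (e : K)⁻¹ 0) (by decide)
  have mA := RT8_le_Mk hK 0 (eP_mem hK 8 (s : K)⁻¹ 0)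
  have mB := RT8_le_Mk hK 0 (eP_mem hK 8 (e : K)⁻¹ 0)
  have ms : hP hK (s, 1) ∈ Mk hK 0 := tor_mem_Mk hK 0 s
  have me : hP hK (e, 1) ∈ Mk hK 0 := tor_mem_Mk hK 0 e
  have mn : naP hK ∈ Mk hK 0 := naP_mem hK
  rw [← hA] at k2
  rw [← hB] at k6
  obtain ⟨N2, hN2⟩ : ∃ N2, N2 = rotP hK * naP hK * (rotP hK)⁻¹ := ⟨_, rfl⟩
  obtain ⟨N6, hN6⟩ : ∃ N6, N6 = nbP hK * naP hK * (nbP hK)⁻¹ := ⟨_, rfl⟩
  rw [e2, ← hN2] at k2
  rw [e6, ← hN6] at k6
  have cAB : Commute A B := by rw [hA', hB']; exact comm_Mk hK mA mB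
  have cA6 : Commute A (hP hK h6 * N6) := by
    rw [hA', ← e6, hN6]; exact (comm_Mk hK mA me).mul_right (comm_Mk hK mA mn)
  have c2B : Commute (hP hK h2 * N2) B := by
    rw [hB', ← e2, hN2]; exact (comm_Mk hK ms mB).mul_left (comm_Mk hK mn mB)
  have cN : Commute N2 (hP hK h6) := by
    rw [← e6, hN2]; exact comm_Mk hK mn me
  have hN : N2 * N6 * n0 hK = 1 := by
    rw [hN2, hN6]
    exact Ex.ext hm (((((ex_rot hK).mul (ex_na hK)).mul ((ex_rot hK).inv (ρ := (· - 2))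
      fun k => sub_add_cancel k 2)).mul (((ex_nb hK).mul (ex_na hK)).mul ((ex_nb hK).inv fun k => sub_sub_cancel 6 k))
      |>.mul (ex_n0 hK)).congr (by decide +kernel)) (ex_one hK)
  have heq : hP hK h2 * hP hK h6 = phi hK hm (dg α β) := by
    rw [phi_dg, ← map_mul]
    refine chr_ext hK (v := wt 0) (w := wt 4) (by decide +kernel) ?_ ?_
    · have a2 : chr m (wt 0) h2 = S := (c2 14).trans (by
        rw [chr_fst, show (wt 14).1 = s2 by decide +kernel, hs])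
      have a6 : chr m (wt 0) h6 = E⁻¹ := (c6 6).trans (by
        rw [chr_fst, show (wt 6).1 = ((-1 : ℤ) : ℤ√2) * s2 by decide +kernel, pw_mul hK, he, pw_int,
          _root_.zpow_neg_one])
      rw [chr_mul_arg, a2, a6, ← hX]
      refine sq_units_inj hK ?_
      rw [sq, sq, mul_mul_mul_comm, hS, ← mul_inv, hE]
      simp [mul_comm, mul_left_comm, mul_assoc]
    · have a2 : chr m (wt 4) h2 = S := (c2 2).trans (by
        rw [chr_fst, show (wt 2).1 = s2 by decide +kernel, hs])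
      have a6 : chr m (wt 4) h6 = E := (c6 2).trans (by
        rw [chr_fst, show (wt 2).1 = s2 by decide +kernel, he])
      rw [chr_mul_arg, a2, a6, ← hY]
      refine sq_units_inj hK ?_
      rw [sq, sq, mul_mul_mul_comm, hS, hE]
      simp [mul_comm, mul_left_comm, mul_assoc]
  refine ⟨eP hK 2 (s : K) 0 * eP hK 6 (e : K) 0,
    mul_mem (RT_le_UA hK (by decide) (by decide) (eP_mem hK _ _ _)) (RT_le_UA hK (by decide) (by decide) (eP_mem hK _ _ _)),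
    A * B, mul_mem (hA ▸ RT_le_VA hK (by decide) (by decide) (eP_mem hK _ _ _))
      (hB ▸ RT_le_VA hK (by decide) (by decide) (eP_mem hK _ _ _)),
    (n0 hK)⁻¹ * A * n0 hK * ((n0 hK)⁻¹ * B * n0 hK),
    mul_mem (hA ▸ RT_le_UA hK (i := 2) (by decide) (by decide) ((ex_n0 hK).RT_inv (by decide) (eP_mem hK _ _ _)))
      (hB ▸ RT_le_UA hK (i := 6) (by decide) (by decide) ((ex_n0 hK).RT_inv (by decide) (eP_mem hK _ _ _))), ?_⟩
  rw [k2, k6, ← heq]
  calc A * (hP hK h2 * N2) * A * (B * (hP hK h6 * N6) * B) * n0 hK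
      = A * (hP hK h2 * N2) * (A * B) * (hP hK h6 * N6) * B * n0 hK := by group
    _ = A * ((hP hK h2 * N2) * B) * (A * (hP hK h6 * N6)) * B * n0 hK := by rw [cAB.eq]; group
    _ = A * B * (hP hK h2 * (N2 * hP hK h6) * N6) * (A * B) * n0 hK := by rw [c2B.eq, cA6.eq]; group
    _ = A * B * (hP hK h2 * hP hK h6 * (N2 * N6 * n0 hK)) * ((n0 hK)⁻¹ * A * n0 hK * ((n0 hK)⁻¹ * B * n0 hK)) := by
        rw [cN.eq]; group
    _ = _ := by rw [hN, mul_one]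

theorem InSig.congruent (hm : 1 ≤ m) {Q : GL (Fin 2) K} (h : InSig hK hm Q) (P : GL (Fin 2) K) :
    InSig hK hm (P * Q * (tinv P)⁻¹) := by
  obtain ⟨z, hz, v, hv, u, hu, e⟩ := h
  refine ⟨phi hK hm P * z * (phi hK hm P)⁻¹, phi_UA hK hm P hz, phi hK hm P * v * (phi hK hm P)⁻¹,
    phi_VA hK hm P hv, phi hK hm (tinv P) * u * (phi hK hm (tinv P))⁻¹, phi_UA hK hm _ hu, ?_⟩
  rw [map_mul, map_mul, map_inv]
  calc phi hK hm P * z * (phi hK hm P)⁻¹ * n0 hK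
      = phi hK hm P * (z * n0 hK) * ((n0 hK)⁻¹ * phi hK hm P * n0 hK)⁻¹ := by group
    _ = _ := by rw [e, n0_phi']; group

/-- all invertible symmetric matrices -/
theorem sig_symm (hm : 1 ≤ m) (Q : GL (Fin 2) K) (hQ : Q.1ᵀ = Q.1) : InSig hK hm Q := by
  have := charF4 hK
  have hdet : Q.1 0 0 * Q.1 1 1 - Q.1 0 1 * Q.1 1 0 ≠ 0 := by rw [← det_fin_two]; exact Q.det_ne_zero
  have h10 : Q.1 1 0 = Q.1 0 1 := congrFun (congrFun hQ 0) 1
  rw [h10] at hdet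
  have tr : ∀ P : GL (Fin 2) K, ((tinv P)⁻¹).1 = P.1ᵀ := fun P => by rw [← map_inv, tinv_val, inv_inv]
  obtain ⟨a, ha⟩ : ∃ a, a = Q.1 0 0 := ⟨_, rfl⟩
  obtain ⟨b, hb⟩ : ∃ b, b = Q.1 0 1 := ⟨_, rfl⟩
  obtain ⟨d, hd⟩ : ∃ d, d = Q.1 1 1 := ⟨_, rfl⟩
  rw [← ha, ← hb, ← hd] at hdet
  by_cases ha0 : a = 0
  swap
  · have h1 : d - b * b / a ≠ 0 := fun z => hdet (by field_simp at z; linear_combination z)
    convert (sig_dg hK hm (Units.mk0 a ha0) (Units.mk0 _ h1)).congruent hK hm (T10 (b / a)) using 1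
    refine Units.ext ?_
    rw [Units.val_mul, Units.val_mul, tr, T10_val, dg_val]
    ext i j
    fin_cases i <;> fin_cases j <;> simp [mul_apply, Fin.sum_univ_two, ← ha, ← hb, ← hd, h10] <;> field_simp <;> ring
  by_cases hd0 : d = 0
  swap
  · have h1 : a - b * b / d ≠ 0 := fun z => hdet (by field_simp at z; linear_combination z)
    convert (sig_dg hK hm (Units.mk0 _ h1) (Units.mk0 d hd0)).congruent hK hm (T01 (b / d)) using 1
    refine Units.ext ?_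
    rw [Units.val_mul, Units.val_mul, tr, T01_val, dg_val]
    ext i j
    fin_cases i <;> fin_cases j <;> simp [mul_apply, Fin.sum_univ_two, ← ha, ← hb, ← hd, h10] <;> field_simp <;> ring
  have hb0 : b ≠ 0 := fun z => hdet (by rw [ha0, z]; ring)
  convert sig_jm hK hm (Units.mk0 b hb0) using 1
  refine Units.ext ?_
  rw [Units.val_mul, dg_val, jm_val]
  ext i j
  fin_cases i <;> fin_cases j <;> simp [mul_apply, Fin.sum_univ_two, ← ha, ← hb, ← hd, h10, ha0, hd0]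

end CfsgLib.Known.ReeFourSquare
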