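import Cfsg.Agent.Lib.Lie.Twisted.F4Mult.Main
import Cfsg.Agent.Lib.Lie.Twisted.F4Perfect

/-!
# Monomial elements of the large Ree groups acting exactly on the sixteen root subgroups
-/

set_option autoImplicit false

namespace CfsgLib.Known.ReeFourSquare

open Cfsg.Lie
open CfsgLib.Lie.Chev CfsgLib.Lie.Chev.TwGroups CfsgLib.Lie.Chev.TwGroups.F4Mult
open CfsgLib.Lie.G2Cover (cj mem_cj)
open scoped commutatorElement

universe u

variable {K : Type u} [Field K] [Fintype K] {m : ℕ} (hK : Fintype.card K = 2 ^ (2 * m + 1))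

/-- the large Ree group is simple and not commutative, so its centre is trivial -/
theorem central_eq_one (hm : 1 ≤ m) {z : ↥(GP hK)} (hz : ∀ g, g * z = z * g) : z = 1 := by
  obtain ⟨hs, hc⟩ := twisted_simple certF4 twF4_le (twF4 hK) (twF4_P1 hK) (faithfulF4 hK) connF4 (perfectF4 hK hm)
  let e : ↥(GP hK) ≃* ↥(twistedF4 K (2 ^ m)) := Subgroup.subgroupOfEquivOfLe twF4_le
  have := hs
  rcases (inferInstance : (Subgroup.center ↥(twistedF4 K (2 ^ m))).Normal).eq_bot_or_eq_top with h | h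
  · have : e z ∈ Subgroup.center ↥(twistedF4 K (2 ^ m)) := Subgroup.mem_center_iff.2 fun g => by
      obtain ⟨g, rfl⟩ := e.surjective g
      rw [← map_mul, ← map_mul, hz]
    rw [h, Subgroup.mem_bot] at this
    exact e.injective (by rw [this, map_one])
  · refine absurd ⟨⟨fun a b => ?_⟩⟩ hc
    exact (Subgroup.mem_center_iff.1 (h ▸ Subgroup.mem_top b) a)

/-- an element is determined by its action on the root elements -/
theorem eq_of_action (hm : 1 ≤ m) {x y : ↥(GP hK)}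
    (h : ∀ k t u, x * eP hK k t u * x⁻¹ = y * eP hK k t u * y⁻¹) : x = y := by
  refine (inv_mul_eq_one.1 (central_eq_one hK hm fun g => ?_)).symm
  have hle : RT hK 0 ⊔ RT hK 8 ⊔ (RT hK 7 ⊔ RT hK 15) ≤ Subgroup.centralizer {y⁻¹ * x} := by
    have key : ∀ k, RT hK k ≤ Subgroup.centralizer {y⁻¹ * x} := by
      rintro k _ ⟨t, u, rfl⟩
      refine Subgroup.mem_centralizer_singleton_iff.2 ?_
      calc eP hK k t u * (y⁻¹ * x) = y⁻¹ * (y * eP hK k t u * y⁻¹) * x := by group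
        _ = y⁻¹ * x * eP hK k t u := by rw [← h]; group
    exact sup_le (sup_le (key _) (key _)) (sup_le (key _) (key _))
  exact Subgroup.mem_centralizer_singleton_iff.1 (hle (by rw [sys_gen]; exact Subgroup.mem_top g))

/-- acting exactly by a map of the directions -/
def Ex (w : ↥(GP hK)) (π : ZMod 16 → ZMod 16) : Prop :=
  ∀ k t u, w * eP hK k t u * w⁻¹ = eP hK (π k) t u

theorem ex_one : Ex hK 1 id := fun k t u => by simp

theorem ex_na : Ex hK (naP hK) (8 - ·) := naP_eP hK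

theorem ex_nb : Ex hK (nbP hK) (6 - ·) := nbP_eP hK

variable {hK}

theorem Ex.mul {w v : ↥(GP hK)} {π ρ : ZMod 16 → ZMod 16} (hw : Ex hK w π) (hv : Ex hK v ρ) :
    Ex hK (w * v) (π ∘ ρ) := fun k t u => by
  rw [show w * v * eP hK k t u * (w * v)⁻¹ = w * (v * eP hK k t u * v⁻¹) * w⁻¹ by group, hv, hw]
  rfl

theorem Ex.inv {w : ↥(GP hK)} {π ρ : ZMod 16 → ZMod 16} (hw : Ex hK w π) (h : ∀ k, π (ρ k) = k) :
    Ex hK w⁻¹ ρ := fun k t u => by
  have := hw (ρ k) t u
  rw [h] at this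
  rw [← this]
  group

theorem Ex.congr {w : ↥(GP hK)} {π ρ : ZMod 16 → ZMod 16} (hw : Ex hK w π) (h : ∀ k, π k = ρ k) : Ex hK w ρ :=
  fun k t u => by rw [← h]; exact hw k t u

theorem Ex.ext (hm : 1 ≤ m) {w v : ↥(GP hK)} {π : ZMod 16 → ZMod 16} (hw : Ex hK w π) (hv : Ex hK v π) : w = v :=
  eq_of_action hK hm fun k t u => by rw [hw, hv]

theorem Ex.RT {w : ↥(GP hK)} {π : ZMod 16 → ZMod 16} (hw : Ex hK w π) {k : ZMod 16} {x : ↥(GP hK)}
    (hx : x ∈ F4Mult.RT hK k) : w * x * w⁻¹ ∈ F4Mult.RT hK (π k) := by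
  obtain ⟨t, u, rfl⟩ := hx
  exact ⟨t, u, hw k t u⟩

theorem Ex.RT_inv {w : ↥(GP hK)} {π : ZMod 16 → ZMod 16} (hw : Ex hK w π) {j k : ZMod 16} (h : π j = k) {x : ↥(GP hK)}
    (hx : x ∈ F4Mult.RT hK k) : w⁻¹ * x * w ∈ F4Mult.RT hK j := by
  obtain ⟨t, u, rfl⟩ := hx
  refine ⟨t, u, ?_⟩
  rw [← h, ← hw j t u]
  group

/-- the action on the torus follows the directions -/
theorem Ex.chr_eq {w : ↥(GP hK)} {π : ZMod 16 → ZMod 16} (hw : Ex hK w π) {g h : Kˣ × Kˣ}
    (e : w * hP hK h * w⁻¹ = hP hK g) (k : ZMod 16) : chr m (wt (π k)) g = chr m (wt k) h := by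
  have h1 : hP hK g * eP hK (π k) 1 0 * (hP hK g)⁻¹ =
      eP hK (π k) ((chr m (wt k) h : K) * 1) (frF4 hK (chr m (wt k) h : K) * (chr m (wt k) h : K) * 0) := by
    rw [← e, ← hw, ← hw, ← hP_eP]
    group
  rw [hP_eP] at h1
  have := (el_inj hK (π k) (congrArg Subtype.val h1)).1
  rw [mul_one, mul_one] at this
  exact Units.ext this

variable (hK)

/-- two characters determine a torus element -/
theorem chr_ext {v w : (ℤ√2) × (ℤ√2)} (hd : indepB v w = true) {g h : Kˣ × Kˣ} (h1 : chr m v g = chr m v h)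
    (h2 : chr m w g = chr m w h) : hP hK g = hP hK h :=
  congrArg (hP hK) ((chrPair_bijective hK hd).1 (Prod.ext h1 h2))

theorem naP_sq (hm : 1 ≤ m) : naP hK * naP hK = 1 :=
  Ex.ext hm (((ex_na hK).mul (ex_na hK)).congr fun k => by show (8 : ZMod 16) - (8 - k) = k; ring) (ex_one hK)

theorem nbP_sq (hm : 1 ≤ m) : nbP hK * nbP hK = 1 :=
  Ex.ext hm (((ex_nb hK).mul (ex_nb hK)).congr fun k => by show (6 : ZMod 16) - (6 - k) = k; ring) (ex_one hK)

/-- rotation by two directions -/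
noncomputable def rotP : ↥(GP hK) := naP hK * nbP hK

theorem ex_rot : Ex hK (rotP hK) (· + 2) :=
  ((ex_na hK).mul (ex_nb hK)).congr fun k => by show (8 : ZMod 16) - (6 - k) = k + 2; ring

theorem ex_rot_pow : ∀ n : ℕ, Ex hK (rotP hK ^ n) (· + 2 * (n : ZMod 16))
  | 0 => by rw [pow_zero]; exact (ex_one hK).congr fun k => by simp
  | n + 1 => by
    rw [pow_succ]
    exact ((ex_rot_pow n).mul (ex_rot hK)).congr fun k => by
      show k + 2 + 2 * (n : ZMod 16) = k + 2 * ((n + 1 : ℕ) : ZMod 16)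
      push_cast; ring

/-- the opposite element -/
noncomputable def n0 : ↥(GP hK) := rotP hK ^ 4

theorem ex_n0 : Ex hK (n0 hK) (· + 8) :=
  (ex_rot_pow hK 4).congr fun k => by rw [show (2 : ZMod 16) * ((4 : ℕ) : ZMod 16) = 8 by decide]

theorem n0_sq (hm : 1 ≤ m) : n0 hK * n0 hK = 1 :=
  Ex.ext hm (((ex_n0 hK).mul (ex_n0 hK)).congr fun k => by
    show k + 8 + 8 = k
    rw [add_assoc, show (8 : ZMod 16) + 8 = 0 by decide, add_zero]) (ex_one hK)

theorem n0_inv (hm : 1 ≤ m) : (n0 hK)⁻¹ = n0 hK := inv_eq_of_mul_eq_one_right (n0_sq hK hm)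

/-- the reflection fixing the last positive direction -/
noncomputable def refM : ↥(GP hK) :=
  naP hK * nbP hK * naP hK * nbP hK * naP hK * nbP hK * naP hK

theorem ex_refM : Ex hK (refM hK) (14 - ·) := braid_eP hK

/-! ### normalising the torus -/

theorem na_norm : naP hK ∈ Subgroup.normalizer (HB hK : Set ↥(GP hK)) :=
  Subgroup.mem_normalizer_iff.2 fun x => ⟨fun hx => nP_conj_HB hK 0 hx, fun hx => by
    rw [← cj_nP_HB hK 0] at hx
    have := mem_cj.1 hx
    simpa [nP, mul_assoc] using this⟩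

theorem nb_norm : nbP hK ∈ Subgroup.normalizer (HB hK : Set ↥(GP hK)) :=
  Subgroup.mem_normalizer_iff.2 fun x => ⟨fun hx => nP_conj_HB hK 1 hx, fun hx => by
    rw [← cj_nP_HB hK 1] at hx
    have := mem_cj.1 hx
    simpa [nP, mul_assoc] using this⟩

theorem n0_norm : n0 hK ∈ Subgroup.normalizer (HB hK : Set ↥(GP hK)) :=
  pow_mem (mul_mem (na_norm hK) (nb_norm hK)) _

theorem refM_norm : refM hK ∈ Subgroup.normalizer (HB hK : Set ↥(GP hK)) :=
  mul_mem (mul_mem (mul_mem (mul_mem (mul_mem (mul_mem (na_norm hK) (nb_norm hK)) (na_norm hK)) (nb_norm hK))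
    (na_norm hK)) (nb_norm hK)) (na_norm hK)

/-- conjugating a torus element by a normalising exact element -/
theorem exists_conj_hP {w : ↥(GP hK)} {π : ZMod 16 → ZMod 16} (hw : Ex hK w π)
    (hn : w ∈ Subgroup.normalizer (HB hK : Set ↥(GP hK))) (h : Kˣ × Kˣ) :
    ∃ g, w * hP hK h * w⁻¹ = hP hK g ∧ ∀ k, chr m (wt (π k)) g = chr m (wt k) h := by
  obtain ⟨g, e⟩ := exists_hP hK ((Subgroup.mem_normalizer_iff.1 hn _).1 (hP_mem hK h))
  exact ⟨g, e, fun k => hw.chr_eq e k⟩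

end CfsgLib.Known.ReeFourSquare
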